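import Cfsg.Agent.H39.HN.X7.Data

/-!
Steps of a derivation (generated data).
-/

set_option autoImplicit false
set_option maxRecDepth 100000
set_option linter.all false
set_option Elab.async false

namespace H39
namespace HN
namespace X7

open H93.CosetI

noncomputable section

def st4 : List Step := [(0,[],[]),(0,[],[]),(0,[],[]),(0,[],[]),(0,[],[]),(0,[],[]),(0,[],[]),(0,[],[]),(0,[],[]),(0,[],[]),(0,[],[]),(0,[],[]),(0,[],[]),(0,[],[]),(0,[],[]),(0,[],[]),(0,[],[]),(0,[],[]),(0,[],[]),(0,[],[]),(0,[],[]),(0,[],[]),(30,[7,140,142,144,1996,1998,2000,2002,2004,2006,2008,2010,2012,2014,2016,2018,2020,2022,2024,2026,2028,2030,2032,2034,2036,2038,2040,2042],[1787,1048,1797,1813,1811,1809,1891]),(0,[],[]),(0,[],[]),(0,[],[]),(0,[],[]),(0,[],[]),(0,[],[]),(0,[],[]),(0,[],[]),(0,[],[]),(3,[10,2060,2062],[1048,1841]),(4,[1048,1050,1052,1054,1056,1058,1060],[9,7,1407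,412]),(0,[],[]),(11,[1048,1050,1052,1054,1056,1058,1060,2066,414,2068],[9,7,1407,142,370]),(0,[],[]),(0,[],[]),(0,[],[]),(0,[],[]),(0,[],[]),(0,[],[]),(0,[],[]),(0,[],[]),(0,[],[]),(0,[],[]),(8,[1048,1841,2072,2074,2076,2078,2080,2082,2084,2086,2088,2090],[9,7,5,3,1,129,578]),(0,[],[]),(0,[],[]),(0,[],[]),(0,[],[]),(0,[],[]),(0,[],[]),(0,[],[]),(0,[],[]),(0,[],[]),(0,[],[]),(5,[10,2060,2062,2094,2096,2098,2100,2102,2104,2106,2108,2110,2112],[9,7,5,3,139,137,135]),(0,[],[]),(0,[],[]),(14,[1048,1841,2065,2094,2096,2098,2100,2116,2118],[9,7,5,3,139,137,135,2115,2113,2111,2109]),(0,[],[]),(0,[],[]),(0,[],[]),(0,[],[]),(0,[],[]),(0,[],[]),(15,[10,2060,2122,2124,2126,2128,2130,2132],[9,7,1407,142,1417,1431,1429,1427,1425,1423,1421,1419,18]),(0,[],[]),(0,[],[]),(0,[],[]),(0,[],[]),(0,[],[]),(0,[],[]),(0,[],[]),(0,[],[]),(16,[1048,1841,2072,2074,2136,2138,2140,2142,2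144,2146,2148,2150],[9,7,1407,142,1417,1431,1439,1437,1435]),(0,[],[]),(0,[],[]),(0,[],[]),(17,[1048,1841,2065,2094,2154,2156,2158],[9,7,5,3,139,137,135,2115,2113,2111,2109,2107,2105,2103,2101]),(0,[],[]),(0,[],[]),(0,[],[]),(0,[],[]),(0,[],[]),(0,[],[]),(0,[],[]),(0,[],[]),(0,[],[]),(0,[],[]),(0,[],[]),(0,[],[]),(7,[10,2060,2062,2094,2096,2162,2164,2166,2168,2170,2172,2174,2176,2178,2180,2182,2184],[9,7,1407,142,370,2071]),(0,[],[]),(0,[],[]),(0,[],[]),(0,[],[]),(0,[],[]),(0,[],[]),(0,[],[]),(0,[],[]),(0,[],[]),(0,[],[]),(0,[],[]),(23,[1048,1050,1052,1054,1056,2192,2194,2196,2198,2200,2202,2204,2206,2208],[9,7,1407,142,1417,1415,1432,2153,2151]),(0,[],[]),(0,[],[]),(25,[1048,1841,2072,2074,2076,2078,2080,2082,2212,2214],[9,7,1407,142,1417,1431,1439,1437,1435,2153,2151,2149,2147,2145,2188]),(0,[],[]),(0,[],[]),(0,[],[]),(0,[],[]),(0,[],[]),(0,[],[]),(0,[],[]),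(0,[],[]),(0,[],[]),(0,[],[]),(0,[],[]),(0,[],[]),(0,[],[]),(27,[1048,1050,1052,1054,2220,2222,2224,2226,2228,2230,2232,2234,2236,2238,2240,2242],[9,7,1407,142,370,1461,1459,1457,1582]),(0,[],[]),(0,[],[]),(0,[],[]),(0,[],[]),(0,[],[]),(0,[],[]),(0,[],[]),(0,[],[]),(0,[],[]),(28,[1048,1841,2065,2094,2154,2156,2246,2248,2250,2252,2254,2256,2258,2260,2262],[9,7,1407,142,1417,1431,1429,1427,1425,1423]),(0,[],[]),(0,[],[]),(0,[],[]),(0,[],[]),(0,[],[]),(0,[],[]),(0,[],[]),(0,[],[]),(0,[],[]),(0,[],[]),(0,[],[]),(29,[1048,1050,2266,2268,2270,2272,2274,2276,2278,2280,2282,2284,2286],[9,7,1407,142,1417,1415,1413,1411,1409,154,127,130]),(0,[],[]),(0,[],[]),(0,[],[]),(0,[],[]),(0,[],[]),(0,[],[]),(0,[],[]),(0,[],[]),(0,[],[]),(0,[],[]),(0,[],[]),(0,[],[]),(0,[],[]),(0,[],[]),(0,[],[]),(0,[],[]),(0,[],[]),(0,[],[]),(0,[],[]),(0,[],[]),(30,[1048,1050,2266,2268,2290,2292,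2294,2296,2298,2300,2302,2304,2306,2308,2310,2312,2314,2316,2318,2320,2322,2324,2326,2328],[9,7,1407,142,1417,1431,1439,1631,1629,1627,1625]),(0,[],[]),(0,[],[]),(0,[],[]),(0,[],[]),(0,[],[]),(0,[],[]),(0,[],[]),(0,[],[]),(0,[],[]),(0,[],[]),(0,[],[]),(0,[],[]),(0,[],[]),(0,[],[]),(0,[],[]),(0,[],[]),(0,[],[]),(0,[],[]),(0,[],[]),(0,[],[]),(0,[],[]),(0,[],[]),(0,[],[]),(0,[],[]),(0,[],[]),(0,[],[]),(0,[],[]),(0,[],[]),(0,[],[]),(0,[],[]),(0,[],[]),(0,[],[]),(0,[],[]),(0,[],[]),(0,[],[]),(31,[1048,1050,2266,2268,2290,2292,2332,2334,2336,2338,2340,2342,2344,2346,2348,2350,2352,2354,2356,2358,2360,2362,2364,2366,2368,2370,2372,2374,2376,2378,2380,2382,2384,2386,2388,2390,2392,2394,2396,2398,2400],[9,7,1407,142,1417,1431,1439,1437,1539,1537]),(2,[12],[]),(0,[],[]),(0,[],[]),(0,[],[]),(0,[],[]),(0,[],[]),(0,[],[]),(0,[],[]),(0,[],[]),(0,[],[]),(0,[],[]),(6,[2060,21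22,2406,2408,2410,2412,2414,2416,2418,2420,2422,2424],[2405,1497,1495]),(0,[],[]),(0,[],[]),(0,[],[]),(11,[11,1786,938,1014,1086,1486,1488,1490,2428,2430,2432],[2405,1497,1495,2427]),(0,[],[]),(0,[],[]),(0,[],[]),(0,[],[]),(0,[],[]),(0,[],[]),(0,[],[]),(0,[],[]),(0,[],[]),(0,[],[]),(0,[],[]),(8,[11,1048,1050,1052,1054,2220,2436,2438,2440,2442,2444,2446,2448,2450,2452,2454,2456],[2405,1497]),(0,[],[]),(0,[],[]),(0,[],[]),(0,[],[]),(0,[],[]),(0,[],[]),(0,[],[]),(0,[],[]),(0,[],[]),(5,[2060,2062,2064,2072,2074,2136,2138,2460,2462,2464,2466,2468,2470,2472,2474,2476],[2405,1497,2459,2457]),(0,[],[]),(14,[11,1048,1841,2072,2074,2136,2138,2140,2480],[2405,1497,2459,2457,2479,2477,2475,2473,2471,2469,2467]),(0,[],[]),(0,[],[]),(0,[],[]),(0,[],[]),(0,[],[]),(15,[2060,2062,2094,2154,2484,2486,2488,2490,2492],[2405,1497,1495,2427,2425,2423,2421,2419,2417,2415,2413,2411]),(0,[],[]),(0,[],[])]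

theorem ok4 : data.stepsOK st4 1000 = true := by decide +kernel

def st5 : List Step := [(0,[],[]),(0,[],[]),(0,[],[]),(0,[],[]),(0,[],[]),(0,[],[]),(0,[],[]),(0,[],[]),(0,[],[]),(0,[],[]),(0,[],[]),(7,[2060,2062,2064,2072,2074,2076,2078,2502,2504,2506,2508,2510,2512,2514,2516,2518,2520],[2405,1497,1495,2427,2435,2433]),(0,[],[]),(0,[],[]),(0,[],[]),(0,[],[]),(0,[],[]),(0,[],[]),(0,[],[]),(0,[],[]),(0,[],[]),(0,[],[]),(0,[],[]),(0,[],[]),(0,[],[]),(0,[],[]),(0,[],[]),(0,[],[]),(0,[],[]),(0,[],[]),(0,[],[]),(0,[],[]),(3,[14,2560,2562],[1497,2459]),(0,[],[]),(0,[],[]),(0,[],[]),(0,[],[]),(0,[],[]),(0,[],[]),(4,[1497,2566,2568,2570,2572,2574,2576],[13,11,9,938]),(0,[],[]),(0,[],[]),(0,[],[]),(0,[],[]),(0,[],[]),(0,[],[]),(0,[],[]),(0,[],[]),(0,[],[]),(0,[],[]),(0,[],[]),(8,[1497,2459,2580,2582,2584,2586,2588,2590,2592,2594,2596,2598,2600],[13,11,1048,1797,1795,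1793]),(0,[],[]),(0,[],[]),(0,[],[]),(0,[],[]),(0,[],[]),(0,[],[]),(0,[],[]),(15,[14,2560,2606,2608,2610,2612,2614,2616],[13,11,9,7,1407,142,1417,1431,1429,1427,1425,1423,2265]),(0,[],[]),(0,[],[]),(0,[],[]),(0,[],[]),(0,[],[]),(0,[],[]),(0,[],[]),(0,[],[]),(16,[1497,2459,2580,2582,2620,2622,2624,2626,2628,2630,2632,2634],[13,11,9,7,1407,142,370,2071,2069]),(0,[],[]),(0,[],[]),(0,[],[]),(0,[],[]),(0,[],[]),(0,[],[]),(0,[],[]),(0,[],[]),(0,[],[]),(0,[],[]),(0,[],[]),(23,[1497,2566,2568,2570,2572,2642,2644,2646,2648,2650,2652,2654,2656,2658],[13,11,9,7,1407,412,414,2637,2635]),(24,[1497,2459,2580,2582,2584,2586,2588,2590,2592,2594,2596,2598,2600,2602,1791],[13,11,9,7,1407,412,2067,1061,1059]),(1,[2662],[]),(1,[2665,1789],[]),(1,[2665,1790],[]),(1,[1056,2668],[]),(1,[2671],[]),(1,[2673,1792],[]),(0,[],[]),(0,[],[]),(0,[],[]),(0,[],[]),(0,[],[]),(0,[],[]),(0,[],[]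),(0,[],[]),(0,[],[]),(0,[],[]),(0,[],[]),(27,[1497,2566,2568,2570,2676,2678,2680,2682,2684,2686,2688,2690,2692,2694,2696],[13,11,9,7,5,3,1,129,155,219]),(0,[],[]),(0,[],[]),(0,[],[]),(0,[],[]),(0,[],[]),(0,[],[]),(28,[1497,2459,2565,2604,2638,2640,2700,2702,2704,2706,2708,2710],[13,11,9,7,1407,142,1417,1431,1429,1427,1515,1513,1785]),(0,[],[]),(0,[],[]),(0,[],[]),(0,[],[]),(0,[],[]),(0,[],[]),(0,[],[]),(0,[],[]),(0,[],[]),(0,[],[]),(0,[],[]),(29,[1497,2566,2714,2716,2718,2720,2722,2724,2726,2728,2730,2732,2734],[13,11,9,7,1407,412,2067,1061,1059,1057,1055,2496]),(0,[],[]),(0,[],[]),(0,[],[]),(0,[],[]),(0,[],[]),(0,[],[]),(0,[],[]),(0,[],[]),(0,[],[]),(0,[],[]),(0,[],[]),(0,[],[]),(0,[],[]),(0,[],[]),(0,[],[]),(0,[],[]),(0,[],[]),(0,[],[]),(0,[],[]),(0,[],[]),(30,[1497,2566,2714,2716,2738,2740,2742,2744,2746,2748,2750,2752,2754,2756,2758,2760,2762,2764,2766,27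68,2770,2772,2774,2776],[13,11,9,7,1407,142,370,1461,1459,1457,1582]),(0,[],[]),(0,[],[]),(0,[],[]),(0,[],[]),(0,[],[]),(0,[],[]),(0,[],[]),(0,[],[]),(0,[],[]),(0,[],[]),(0,[],[]),(0,[],[]),(0,[],[]),(0,[],[]),(0,[],[]),(0,[],[]),(0,[],[]),(0,[],[]),(0,[],[]),(0,[],[]),(0,[],[]),(0,[],[]),(0,[],[]),(0,[],[]),(0,[],[]),(0,[],[]),(0,[],[]),(0,[],[]),(0,[],[]),(0,[],[]),(0,[],[]),(0,[],[]),(0,[],[]),(0,[],[]),(0,[],[]),(31,[1497,2566,2714,2716,2738,2740,2780,2782,2784,2786,2788,2790,2792,2794,2796,2798,2800,2802,2804,2806,2808,2810,2812,2814,2816,2818,2820,2822,2824,2826,2828,2830,2832,2834,2836,2838,2840,2842,2844,2846,2848],[13,11,9,7,1407,142,370,2071,2187,2185]),(2,[16],[]),(0,[],[]),(0,[],[]),(0,[],[]),(0,[],[]),(0,[],[]),(0,[],[]),(0,[],[]),(0,[],[]),(0,[],[]),(0,[],[]),(6,[2560,2606,2854,2856,2858,2860,2862,2864,2866,2868,2870,2872],[2853,18,2135]),(0,[],[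]),(0,[],[]),(0,[],[]),(11,[15,2404,2060,2122,2124,2126,2128,2130,2876,2878,2880],[2853,18,2135,2875]),(0,[],[]),(0,[],[]),(0,[],[]),(0,[],[]),(0,[],[]),(0,[],[]),(0,[],[]),(0,[],[]),(8,[15,1497,2566,2568,2570,2676,2884,2886,2888,2890,2892,2894,2896,2898],[2853,18,1649,1647,1645]),(0,[],[]),(0,[],[]),(0,[],[]),(0,[],[]),(0,[],[]),(0,[],[]),(0,[],[]),(0,[],[]),(0,[],[]),(5,[2560,2562,2564,2580,2582,2620,2622,2902,2904,2906,2908,2910,2912,2914,2916,2918],[2853,18,1649,1647]),(0,[],[]),(0,[],[]),(0,[],[]),(0,[],[]),(0,[],[]),(0,[],[]),(0,[],[]),(0,[],[]),(0,[],[]),(0,[],[]),(0,[],[]),(0,[],[]),(0,[],[]),(16,[15,1497,2566,2568,2926,2928,2930,2932,2934,2936,2938,2940,2942,2944,2946],[2853,18,2135,2875,2873,2871]),(0,[],[]),(0,[],[]),(0,[],[]),(0,[],[]),(0,[],[]),(0,[],[]),(0,[],[]),(0,[],[]),(0,[],[]),(0,[],[]),(7,[2560,2562,2564,2580,2582,2584,2586,2950,2952,2954,2956,2958,2960,2962,2964,2966,2968],[2853,18,2135,2875,2883,2881]),(0,[],[]),(0,[],[]),(0,[],[]),(0,[],[]),(0,[],[]),(0,[],[]),(0,[],[]),(0,[],[]),(0,[],[]),(0,[],[]),(22,[15,1497,2566,2568,2926,2928,2930,2932,2972,2974,2976,2978,2980,2982,2984,2986,2988,2990],[2853,18,2135,2875,2873]),(0,[],[]),(0,[],[]),(0,[],[])]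

theorem ok5 : data.stepsOK st5 1250 = true := by decide +kernel

def st6 : List Step := [(0,[],[]),(0,[],[]),(0,[],[]),(0,[],[]),(0,[],[]),(0,[],[]),(23,[15,2404,2060,2122,2124,2994,2996,2998,3000,3002,3004,3006,3008,3010],[2853,18,2135,2875,2873,2993,2991,2989,2987]),(0,[],[]),(0,[],[]),(0,[],[]),(24,[15,1497,2566,2568,2570,2676,2884,2886,2888,2890,2892,2894,2896,2898,3014,3016,3018],[2853,18,2135,2875,2873,2993]),(0,[],[]),(29,[15,2404,11,1786,938,940,984,1132,1134,1632,1634,1636,1638,1640,1642],[2853,18,2135,2875,2873,2993,3021,3019,3017,3015]),(0,[],[]),(0,[],[]),(0,[],[]),(0,[],[]),(0,[],[]),(0,[],[]),(0,[],[]),(0,[],[]),(0,[],[]),(0,[],[]),(0,[],[]),(0,[],[]),(0,[],[]),(0,[],[]),(3,[1418,3050,3052],[18,1649]),(0,[],[]),(0,[],[]),(0,[],[]),(0,[],[]),(4,[18,20,22,3056,3058,3060,3062],[17,15,13,2060]),(0,[],[]),(0,[],[]),(0,[],[]),(0,[],[]),(0,[],[]),(0,[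],[]),(0,[],[]),(0,[],[]),(0,[],[]),(0,[],[]),(0,[],[]),(8,[18,1649,3066,3068,3070,3072,3074,3076,3078,3080,3082,3084,3086],[17,15,1497,1495,1493,1491]),(0,[],[]),(0,[],[]),(0,[],[]),(0,[],[]),(0,[],[]),(0,[],[]),(0,[],[]),(0,[],[]),(5,[1418,3050,3052,3090,3092,3094,3096,3098,3100,3102,3104],[17,15,1497,1495,2427,2435,2433,2523,2521]),(0,[],[]),(15,[1418,3050],[17,15,13,11,9,7,1407,142,1417,1431,1429,1427,1515,1711,1709,1707,1705,1703,1701]),(0,[],[]),(0,[],[]),(0,[],[]),(0,[],[]),(0,[],[]),(16,[18,1649,3066,3068,3112,3114,3116,3118,3120],[17,15,13,11,9,7,5,466,631,629,657,655]),(0,[],[]),(0,[],[]),(0,[],[]),(17,[18,1649,3055,3090,3124,3126,3128],[17,15,1497,1495,2427,2435,2433,2523,2521,3107,3105,3103,3101,3099,3097]),(0,[],[]),(0,[],[]),(0,[],[]),(0,[],[]),(0,[],[]),(0,[],[]),(0,[],[]),(0,[],[]),(0,[],[]),(0,[],[]),(7,[1418,3050,3052,3090,3092,3132,3134,3136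,3138,3140,3142,3144,3146,3148,3150],[17,15,13,11,1048,1841,1839,1861]),(0,[],[]),(0,[],[]),(0,[],[]),(0,[],[]),(22,[18,1649,3066,3068,3112,3114,3116,3118,3154,3156,3158,3160],[17,15,13,11,9,938,940,629,657,655,3123]),(0,[],[]),(0,[],[]),(0,[],[]),(0,[],[]),(0,[],[]),(0,[],[]),(0,[],[]),(0,[],[]),(0,[],[]),(23,[18,20,22,3056,3058,3164,3166,3168,3170,3172,3174,3176,3178,3180],[17,15,13,11,9,938,940,629,657]),(24,[18,1649,3066,3068,3070,3072,3074,3076,3078,3080,3082,3084,3086,3088,1489],[17,15,13,11,9,938,2579,2577,2575]),(1,[3185],[]),(1,[3187,2574],[]),(1,[3187,2573],[]),(1,[1489,3190],[]),(1,[3187,2642],[]),(1,[3193],[]),(1,[3197,2676],[]),(1,[3088,3198],[]),(1,[3200],[]),(1,[3203,3088],[]),(0,[],[]),(0,[],[]),(0,[],[]),(0,[],[]),(0,[],[]),(0,[],[]),(0,[],[]),(0,[],[]),(0,[],[]),(0,[],[]),(0,[],[]),(27,[18,20,22,3056,3206,3208,3210,3212,3214,3216,3218,3220,32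22,3224,3226],[17,15,13,11,1048,1797,1795,2675,1056,2192]),(0,[],[]),(0,[],[]),(0,[],[]),(0,[],[]),(0,[],[]),(0,[],[]),(28,[18,1649,3055,3090,3124,3126,3230,3232,3234,3236,3238,3240],[17,15,13,11,9,7,1407,142,1417,1431,1439,1437,1539]),(0,[],[]),(0,[],[]),(0,[],[]),(0,[],[]),(0,[],[]),(0,[],[]),(0,[],[]),(0,[],[]),(0,[],[]),(0,[],[]),(0,[],[]),(0,[],[]),(0,[],[]),(0,[],[]),(0,[],[]),(0,[],[]),(0,[],[]),(0,[],[]),(0,[],[]),(0,[],[]),(0,[],[]),(0,[],[]),(0,[],[]),(0,[],[]),(30,[18,20,3244,3246,3258,3260,3262,3264,3266,3268,3270,3272,3274,3276,3278,3280,3282,3284,3286,3288,3290],[17,15,13,11,9,7,5,3,1,129,155,153,151,180]),(0,[],[]),(0,[],[]),(0,[],[]),(0,[],[]),(0,[],[]),(0,[],[]),(0,[],[]),(0,[],[]),(0,[],[]),(0,[],[]),(0,[],[]),(0,[],[]),(0,[],[]),(0,[],[]),(0,[],[]),(0,[],[]),(0,[],[]),(0,[],[]),(0,[],[]),(0,[],[]),(0,[],[]),(0,[],[]),(0,[],[]),(0,[],[]),(0,[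],[]),(0,[],[]),(0,[],[]),(0,[],[]),(0,[],[]),(0,[],[]),(31,[18,20,3244,3246,3258,3260,3294,3296,3298,3300,3302,3304,3306,3308,3310,3312,3314,3316,3318,3320,3322,3324,3326,3328,3330,3332,3334,3336,3338,3340,3342,3344,3346,3348,3350,3352],[17,15,13,11,9,7,5,466,577,599,607,835,833,831,829]),(2,[20],[2135]),(1,[3357],[]),(1,[3359,2134],[]),(1,[3359,2133],[]),(1,[23,3362],[]),(1,[3359,2875],[]),(1,[3245,3366],[]),(1,[3365],[]),(1,[3371,2131],[]),(1,[3371,2876],[]),(1,[25,3374],[]),(1,[3368],[]),(1,[3379,3246],[]),(1,[3379,3245],[]),(1,[3377],[]),(1,[3385,2878],[]),(4,[1649,3066,3068,3070],[3361,3383,2873,2993,3021,3019,3017,3015]),(1,[3388],[]),(1,[3391,3071],[]),(1,[3024,3392],[]),(1,[3395],[]),(1,[3397,3069],[]),(1,[1645,3398],[]),(1,[3401],[]),(1,[3403,3067],[]),(11,[1649,3405,1645,3024,3014,3016,3018,3020,2991],[3361,3383,2873,2871,2949,2947,2945]),(1,[3406],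[]),(1,[3409,2989],[]),(1,[2942,3410],[]),(1,[3409,2990],[]),(1,[3413],[]),(1,[3417,2987],[]),(1,[2940,3418],[]),(1,[3421],[]),(1,[3423,3013],[]),(0,[],[]),(0,[],[]),(0,[],[]),(0,[],[]),(15,[19,1418,1420,2265,3426,3428,3430,3432],[3361,3383,2873,2871,2869,2867,2865,2863,2861,2859,2857,2855,2608]),(0,[],[]),(0,[],[]),(0,[],[]),(0,[],[]),(0,[],[]),(0,[],[]),(0,[],[]),(0,[],[]),(16,[1649,3055,3090,3092,3094,3096,3108,3436,3438,3440,3442,3444,3446,3448,3450],[3361,3383,2873,2871,2869,2867]),(0,[],[]),(0,[],[]),(0,[],[]),(0,[],[]),(0,[],[]),(0,[],[]),(0,[],[]),(0,[],[]),(0,[],[]),(0,[],[]),(0,[],[]),(22,[1649,3055,3090,3092,3094,3096,3108,3436,3456,3458,3460,3462,3464,3466,3468,3470,3472,3474],[3361,3383,2873,2871,2869]),(0,[],[]),(0,[],[]),(0,[],[]),(4,[3383,3380,3248,3480,3482],[21,1649,1647,1645,2901,3014]),(0,[],[]),(0,[],[]),(0,[],[]),(0,[],[]),(0,[],[]),(0,[],[]),(0,[],[])]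

theorem ok6 : data.stepsOK st6 1500 = true := by decide +kernel

def st7 : List Step := [(0,[],[]),(6,[22,3056,3206,3486,3488,3490,3492,3494,3496,3498,3500],[21,1649,1647,2921]),(0,[],[]),(0,[],[]),(0,[],[]),(0,[],[]),(0,[],[]),(0,[],[]),(0,[],[]),(0,[],[]),(0,[],[]),(0,[],[]),(0,[],[]),(0,[],[]),(0,[],[]),(0,[],[]),(8,[3383,2883,3504,3506,3508,3510,3512,3514,3516,3518,3520,3522,3524,3526,3528,3530],[21,1649,3055]),(0,[],[]),(0,[],[]),(0,[],[]),(0,[],[]),(0,[],[]),(0,[],[]),(0,[],[]),(0,[],[]),(0,[],[]),(0,[],[]),(0,[],[]),(0,[],[]),(0,[],[]),(5,[22,24,3386,3534,3536,3538,3540,3542,3544,3546,3548,3550,3552,3554,3556,3558],[21,1649,3055,3533]),(0,[],[]),(0,[],[]),(14,[3383,2883,2881,3534,3536,3538,3540,3562,3564],[21,1649,3055,3533,3561,3559,3557,3555,3553,3551,3549]),(0,[],[]),(0,[],[]),(0,[],[]),(0,[],[]),(0,[],[]),(0,[],[]),(15,[22,24,26,3568,3570,3572,357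4,3576,3578],[21,1649,1647,2921,3503,3501,3499,3497,3495,3493,3491,3489]),(0,[],[]),(0,[],[]),(0,[],[]),(0,[],[]),(0,[],[]),(0,[],[]),(0,[],[]),(17,[3383,2883,2881,3534,3590,3592,3594],[21,1649,3055,3533,3561,3559,3557,3555,3553,3551,3549,3547,3545,3543,3541]),(0,[],[]),(18,[22,24,3386,3534,3590,3592,3594,3596,3540,3562,3564,3566,3548,3550,3552,3554,3598],[21,1649,3055,3533,3531]),(0,[],[]),(0,[],[]),(0,[],[]),(0,[],[]),(0,[],[]),(0,[],[]),(0,[],[]),(0,[],[]),(0,[],[]),(0,[],[]),(0,[],[]),(0,[],[]),(0,[],[]),(0,[],[]),(0,[],[]),(0,[],[]),(22,[3383,2883,3504,3506,3582,3584,3586,3588,3614,3616,3618,3620,3622,3624,3626,3628,3630,3632],[21,1649,1647,2921,3503]),(0,[],[]),(0,[],[]),(0,[],[]),(24,[3383,2883,3504,3506,3508,3510,3512,3514,3516,3518,3520,3522,3524,3526,3636,3638,3640],[21,1649,1647,2921,3503,3635]),(0,[],[]),(0,[],[]),(0,[],[]),(0,[],[]),(0,[],[]),(0,[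],[]),(0,[],[]),(0,[],[]),(0,[],[]),(0,[],[]),(0,[],[]),(0,[],[]),(0,[],[]),(0,[],[]),(0,[],[]),(29,[3383,3380,3258,3650,3652,3654,3656,3658,3660,3662,3664,3666,3668,3670,3672],[21,1649,1647,2921,3503,3635,3643,3641,3639,3637]),(2,[3056],[3372]),(1,[3676],[]),(1,[3679,3057],[]),(1,[3679,3206],[]),(1,[3679,3058],[]),(1,[2128,3684],[]),(1,[3687],[]),(1,[3689,3060],[]),(1,[3689,3164],[]),(0,[],[]),(0,[],[]),(0,[],[]),(0,[],[]),(0,[],[]),(6,[24,26,28,30,32,34,3694,3696,3698,3700,3702],[3372,2129,2127,2994]),(0,[],[]),(11,[23,3360,19,2852,15,2404,2060,2122,2406,3022,3706],[3372,2129,2127,2994]),(0,[],[]),(0,[],[]),(0,[],[]),(0,[],[]),(0,[],[]),(0,[],[]),(0,[],[]),(0,[],[]),(0,[],[]),(0,[],[]),(8,[23,3383,3380,3248,3480,3644,3710,3712,3714,3716,3718,3720,3722,3724,3726,3728],[3372,2129,3692]),(0,[],[]),(0,[],[]),(0,[],[]),(0,[],[]),(0,[],[]),(15,[24,3386,3534,3590,3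732,3734,3736,3738,3740],[3372,2129,2127,2994,3705,3703,3701,3699,3697,3695,35,33]),(0,[],[]),(0,[],[]),(0,[],[]),(0,[],[]),(0,[],[]),(0,[],[]),(0,[],[]),(0,[],[]),(16,[23,3383,3380,3248,3250,3252,3254,3744,3746,3748,3750,3752,3754,3756,3758],[3372,2129,2127,2994,3705,3703]),(21,[23,3383,3380,3258,3260,3294],[3372,2129,2127,2994,3705,3703,3761,3759,3757,3755,3753,3751,3749,3747,3745,3255,3253]),(0,[],[]),(0,[],[]),(0,[],[]),(0,[],[]),(0,[],[]),(0,[],[]),(0,[],[]),(0,[],[]),(0,[],[]),(0,[],[]),(22,[23,3383,3380,3248,3250,3252,3254,3744,3764,3766,3768,3770,3772,3774,3776,3778,3780,3782],[3372,2129,2127,2994,3705]),(0,[],[]),(0,[],[]),(0,[],[]),(23,[23,3360,19,2852,15,1497,2566,2568,2926,2928,2930,3786,3788,3790],[3372,2129,2127,2994,3705,3785,3783,3781,3779]),(0,[],[]),(0,[],[]),(0,[],[]),(0,[],[]),(0,[],[]),(0,[],[]),(0,[],[]),(0,[],[]),(0,[],[]),(0,[],[]),(0,[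],[]),(27,[23,3360,19,2852,2560,2562,2604,2638,2922,2924,3796,3798,3800,3802,3804,3806,3808,3810,3812,3814],[3372,2129,2127,2994,3709]),(0,[],[]),(0,[],[]),(0,[],[]),(0,[],[]),(0,[],[]),(0,[],[]),(0,[],[]),(0,[],[]),(28,[23,3383,2883,3504,3610,3612,3818,3820,3822,3824,3826,3828,3830,3832],[3372,2129,2127,2994,3705,3703,3701,3699,3697,3695,36]),(0,[],[]),(0,[],[]),(0,[],[]),(0,[],[]),(0,[],[]),(0,[],[]),(0,[],[]),(0,[],[]),(0,[],[]),(0,[],[]),(0,[],[]),(0,[],[]),(0,[],[]),(0,[],[]),(0,[],[]),(0,[],[]),(0,[],[]),(0,[],[]),(0,[],[]),(0,[],[]),(0,[],[]),(0,[],[]),(0,[],[]),(0,[],[]),(0,[],[]),(0,[],[]),(0,[],[]),(0,[],[]),(0,[],[]),(0,[],[]),(0,[],[]),(0,[],[]),(0,[],[]),(0,[],[]),(0,[],[]),(0,[],[]),(31,[23,3360,1649,3405,2921,2919,2917,3836,3838,3840,3842,3844,3846,3848,3850,3852,3854,3856,3858,3860,3862,3864,3866,3868,3870,3872,3874,3876,3878,3880,3882,3884,388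6,3888,3890,3892,3894,3896,3898,3900,3902,3904,3906],[3372,2129,2127,2994,3705,3703,3761,3759]),(2,[26],[]),(0,[],[]),(0,[],[]),(0,[],[]),(0,[],[]),(4,[25,3681,3682,3486,3581,3912,3914,3916,3918],[3911,3568]),(0,[],[]),(0,[],[]),(0,[],[]),(0,[],[]),(0,[],[]),(0,[],[]),(0,[],[]),(6,[3386,3534,3536,3606,3608,3922,3924,3926,3928,3930,3932,3934],[3911,3568,3921]),(0,[],[]),(0,[],[]),(0,[],[]),(0,[],[]),(0,[],[]),(0,[],[]),(0,[],[]),(0,[],[]),(0,[],[]),(0,[],[]),(8,[25,23,3360,19,2852,2560,2606,2608,3940,3942,3944,3946,3948,3950,3952,3954,3956],[3911,3568]),(0,[],[]),(0,[],[]),(0,[],[]),(0,[],[]),(0,[],[]),(0,[],[]),(0,[],[]),(0,[],[]),(0,[],[]),(5,[3386,2880,2882,3380,3248,3250,3252,3960,3962,3964,3966,3968,3970,3972,3974,3976],[3911,3568,3959,3957]),(14,[25,23,3383,3380,3248,3250,3252,3254,3256],[3911,3568,3959,3957,3979,3977,3975,3973,3971,3969,3967]),(0,[],[]),(0,[],[]),(0,[],[]),(0,[],[]),(0,[],[]),(0,[],[]),(0,[],[]),(16,[25,23,3360,19,1418,1420,2265,3426,3982,3984,3986,3988,3990,3992,3994],[3911,3568,3921,3937,3935,3933]),(0,[],[])]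

theorem ok7 : data.stepsOK st7 1750 = true := by decide +kernel

end

end X7
end HN
end H39
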