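import Cfsg.Agent.H39.HN.X7.Data

/-!
Steps of a derivation (generated data).
-/

set_option autoImplicit false
set_option maxRecDepth 100000
set_option linter.all false
set_option Elab.async false

namespace H39
namespace HN
namespace X7

open H93.CosetI

noncomputable section

def st8 : List Step := [(18,[3386,2880,2882,3380,3258,3260,3294,3762,3252,3254,3256,3980,3966,3968,3970,3972,3998],[3911,3568,3959,3957,3955]),(0,[],[]),(0,[],[]),(0,[],[]),(0,[],[]),(0,[],[]),(0,[],[]),(0,[],[]),(0,[],[]),(0,[],[]),(22,[25,23,3360,19,1418,1420,2265,3426,3428,4002,4004,4006,4008,4010,4012,4014,4016,4018],[3911,3568,3921,3937,3935]),(0,[],[]),(0,[],[]),(0,[],[]),(0,[],[]),(0,[],[]),(0,[],[]),(0,[],[]),(0,[],[]),(0,[],[]),(23,[25,3681,3682,3486,3581,4022,4024,4026,4028,4030,4032,4034,4036,4038],[3911,3568,3921,3937,3935,4021,4019,4017,4015]),(0,[],[]),(0,[],[]),(0,[],[]),(24,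[25,23,3360,19,2852,2560,2606,2608,3940,3942,3944,3946,3948,3950,4042,4044,4046],[3911,3568,3921,3937,3935,4021]),(25,[25,23,3360,19,2852,2560,2606,2608,2610,2612,2614,2616],[3911,3568,3921,3937,3935,3933,3997,3995,3993,3991,3989,3987,3985,3983]),(1,[4051],[]),(1,[4053,3427],[]),(1,[4053,3428],[]),(1,[2616,4056],[]),(1,[4053,3982],[]),(1,[4059],[]),(1,[4063,3430],[]),(1,[4063,4002],[]),(0,[],[]),(0,[],[]),(0,[],[]),(0,[],[]),(0,[],[]),(0,[],[]),(0,[],[]),(0,[],[]),(0,[],[]),(0,[],[]),(29,[25,3681,2129,3690,3062,4068,4070,4072,4074,4076,4078,4080,4082,4084,4086],[3911,3568,3921,3937,3935,4021,4049,4047,4045,4043]),(0,[],[]),(0,[],[]),(0,[],[]),(0,[],[]),(0,[],[]),(3,[28,4096,4098],[3568,3959]),(4,[3568,3570,3572,3574,3576,3578,3580],[27,25,3372,3682]),(0,[],[]),(11,[3568,3570,3572,3574,3576,3578,3580,4102,3208,4104],[27,25,3372,2129,3692]),(0,[],[]),(0,[],[]),(0,[],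[]),(0,[],[]),(0,[],[]),(0,[],[]),(0,[],[]),(0,[],[]),(0,[],[]),(0,[],[]),(8,[3568,3959,4108,4110,4112,4114,4116,4118,4120,4122,4124,4126],[27,25,23,21,19,17,2560]),(0,[],[]),(0,[],[]),(0,[],[]),(0,[],[]),(0,[],[]),(0,[],[]),(0,[],[]),(0,[],[]),(0,[],[]),(0,[],[]),(5,[28,4096,4098,4130,4132,4134,4136,4138,4140,4142,4144,4146,4148],[27,25,23,21,1649,3055,3053]),(0,[],[]),(0,[],[]),(0,[],[]),(0,[],[]),(0,[],[]),(0,[],[]),(15,[28,4096,4152,4154,4156,4158,4160,4162],[27,25,3372,2129,2127,2994,3705,3703,3701,3699,3697,3695,36]),(0,[],[]),(0,[],[]),(0,[],[]),(0,[],[]),(0,[],[]),(0,[],[]),(0,[],[]),(0,[],[]),(16,[3568,3959,4108,4110,4166,4168,4170,4172,4174,4176,4178,4180],[27,25,3372,2129,2127,2994,3709,3707,3023]),(0,[],[]),(0,[],[]),(0,[],[]),(0,[],[]),(0,[],[]),(21,[3568,3959,4108,4188,4190,4192],[27,25,3372,2129,2127,2994,3709,3707,3023,4183,4181,4179,4177,4175,4173,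4171,4169]),(0,[],[]),(0,[],[]),(0,[],[]),(0,[],[]),(0,[],[]),(0,[],[]),(0,[],[]),(0,[],[]),(0,[],[]),(23,[3568,3570,3572,3574,3576,4196,4198,4200,4202,4204,4206,4208,4210,4212],[27,25,3372,2129,2127,2125,2406,4183,4181]),(0,[],[]),(0,[],[]),(0,[],[]),(0,[],[]),(0,[],[]),(0,[],[]),(0,[],[]),(0,[],[]),(0,[],[]),(0,[],[]),(0,[],[]),(28,[3568,3959,4101,4130,4184,4186,4220,4222,4224,4226,4228,4230,4232,4234,4236],[27,25,3372,2129,2127,2994,3705,3703,3701,3699]),(0,[],[]),(0,[],[]),(0,[],[]),(0,[],[]),(0,[],[]),(0,[],[]),(0,[],[]),(0,[],[]),(0,[],[]),(0,[],[]),(0,[],[]),(29,[3568,3570,4240,4242,4244,4246,4248,4250,4252,4254,4256,4258,4260],[27,25,3372,2129,2127,2125,2123,2061,2405,14,2853,1418]),(2,[30],[]),(0,[],[]),(0,[],[]),(0,[],[]),(0,[],[]),(0,[],[]),(0,[],[]),(0,[],[]),(0,[],[]),(0,[],[]),(0,[],[]),(6,[4096,4152,4266,4268,4270,4272,4274,4276,4278,4280,4282,4284],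[4265,3743,3741]),(0,[],[]),(0,[],[]),(0,[],[]),(0,[],[]),(0,[],[]),(0,[],[]),(0,[],[]),(0,[],[]),(0,[],[]),(0,[],[]),(0,[],[]),(8,[29,3568,3570,3572,3574,4216,4288,4290,4292,4294,4296,4298,4300,4302,4304,4306,4308],[4265,3743]),(0,[],[]),(0,[],[]),(0,[],[]),(0,[],[]),(0,[],[]),(0,[],[]),(0,[],[]),(0,[],[]),(0,[],[]),(5,[4096,4098,4100,4108,4110,4166,4168,4312,4314,4316,4318,4320,4322,4324,4326,4328],[4265,3743,4311,4309]),(0,[],[]),(14,[29,3568,3959,4108,4110,4166,4168,4170,4332],[4265,3743,4311,4309,4331,4329,4327,4325,4323,4321,4319]),(0,[],[]),(0,[],[]),(0,[],[]),(0,[],[]),(0,[],[]),(0,[],[]),(0,[],[]),(0,[],[]),(0,[],[]),(0,[],[]),(0,[],[]),(16,[29,3568,3570,3572,4336,4338,4340,4342,4344,4346,4348,4350,4352,4354,4356],[4265,3743,3741,4287,4285,4283]),(0,[],[]),(18,[4096,4098,4100,4108,4188,4190,4192,4194,4168,4170,4332,4334,4318,4320,4322,4324,4360],[4265,3743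,4311,4309,4307]),(0,[],[]),(0,[],[]),(0,[],[]),(0,[],[]),(0,[],[]),(0,[],[]),(0,[],[]),(0,[],[]),(0,[],[]),(0,[],[]),(22,[29,3568,3570,3572,4336,4338,4340,4342,4364,4366,4368,4370,4372,4374,4376,4378,4380,4382],[4265,3743,3741,4287,4285]),(0,[],[]),(0,[],[]),(0,[],[]),(0,[],[]),(0,[],[]),(0,[],[]),(23,[29,3910,3386,3534,3590,3592,3646,3648,4386,4388,4390,4392,4394,4396],[4265,3743,3741,4287,4285,4385,4383,4381,4379]),(0,[],[]),(0,[],[]),(0,[],[]),(24,[29,3568,3570,3572,3574,4216,4288,4290,4292,4294,4296,4298,4300,4302,4400,4402,4404],[4265,3743,3741,4287,4285,4385]),(0,[],[]),(0,[],[]),(25,[29,3568,3570,3572,3574,4216,4288,4290,4408,4410],[4265,3743,3741,4287,4285,4283,4359,4357,4355,4353,4351,4349,4347,4345,4364]),(0,[],[]),(0,[],[]),(0,[],[]),(0,[],[]),(0,[],[]),(0,[],[]),(0,[],[]),(29,[29,3910,25,3681,3682,3208,3210,3212,4414,4416,4418,4420,4422,4424,4426],[426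5,3743,3741,4287,4285,4385,4407,4405,4403,4401]),(0,[],[]),(0,[],[]),(3,[32,4430,4432],[3743,4311]),(0,[],[]),(0,[],[]),(0,[],[]),(4,[3743,4436,4438,4440],[31,29,27,3386,2971,2969,2967]),(0,[],[]),(0,[],[]),(0,[],[]),(0,[],[]),(0,[],[]),(0,[],[]),(0,[],[]),(0,[],[]),(0,[],[]),(0,[],[]),(0,[],[]),(8,[3743,4311,4444,4446,4448,4450,4452,4454,4456,4458,4460,4462,4464],[31,29,3568,3921,3919,3917]),(0,[],[]),(0,[],[]),(0,[],[]),(0,[],[]),(0,[],[]),(0,[],[]),(15,[32,4430,4468,4470,4472,4474,4476,4478],[31,29,27,25,3372,2129,2127,2994,3705,3703,3701,3699,4239]),(0,[],[]),(0,[],[]),(0,[],[]),(0,[],[]),(0,[],[]),(0,[],[]),(0,[],[]),(0,[],[]),(16,[3743,4311,4444,4446,4482,4484,4486,4488,4490,4492,4494,4496],[31,29,27,25,3372,2129,3692,4107,4105])]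

theorem ok8 : data.stepsOK st8 2000 = true := by decide +kernel

def st9 : List Step := [(0,[],[]),(0,[],[]),(0,[],[]),(0,[],[]),(0,[],[]),(0,[],[]),(0,[],[]),(0,[],[]),(23,[3743,4436,4438,4440,4442,2965,4500,4502,4504,4506,4508,4510,4512,4514],[31,29,27,25,3372,3682,3208,4499,4497]),(24,[3743,4311,4444,4446,4448,4450,4452,4454,4456,4458,4460,4462,4464,4466,3915],[31,29,27,25,3372,3682,4103,3581,3579]),(1,[4518],[]),(1,[4521,3913],[]),(1,[4521,3914],[]),(1,[3576,4524],[]),(1,[4527],[]),(1,[4529,3916],[]),(1,[4529,4467],[]),(1,[4217,4532],[]),(1,[4535],[]),(1,[4537,4465],[]),(0,[],[]),(0,[],[]),(0,[],[]),(0,[],[]),(0,[],[]),(0,[],[]),(0,[],[]),(0,[],[]),(0,[],[]),(0,[],[]),(0,[],[]),(0,[],[]),(29,[3743,4436,4542,4544,4546,4548,4550,4552,4554,4556,4558,4560,4562],[31,29,27,25,3372,3682,4103,3581,3579,3577,3575,4336]),(0,[],[]),(0,[],[]),(0,[],[]),(0,[],[]),(0,[],[]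),(0,[],[]),(0,[],[]),(0,[],[]),(0,[],[]),(0,[],[]),(0,[],[]),(0,[],[]),(0,[],[]),(0,[],[]),(0,[],[]),(0,[],[]),(0,[],[]),(0,[],[]),(0,[],[]),(0,[],[]),(30,[3743,4436,4542,4544,4566,4568,4570,4572,4574,4576,4578,4580,4582,4584,4586,4588,4590,4592,4594,4596,4598,4600,4602,4604],[31,29,27,25,3372,2129,3692,3731,3729,3727,3794]),(2,[34],[]),(0,[],[]),(0,[],[]),(0,[],[]),(0,[],[]),(0,[],[]),(0,[],[]),(0,[],[]),(0,[],[]),(0,[],[]),(0,[],[]),(6,[4430,4468,4610,4612,4614,4616,4618,4620,4622,4624,4626,4628],[4609,36,4165]),(0,[],[]),(0,[],[]),(0,[],[]),(11,[33,4264,4096,4152,4154,4156,4158,4160,4632,4634,4636],[4609,36,4165,4631]),(0,[],[]),(0,[],[]),(0,[],[]),(0,[],[]),(0,[],[]),(0,[],[]),(0,[],[]),(0,[],[]),(0,[],[]),(0,[],[]),(0,[],[]),(0,[],[]),(0,[],[]),(0,[],[]),(0,[],[]),(0,[],[]),(0,[],[]),(5,[4430,4432,4434,4444,4446,4482,4484,4656,4658,4660,4662,4664,4666,4668,46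70,4672],[4609,36,3835,3833]),(0,[],[]),(0,[],[]),(0,[],[]),(0,[],[]),(0,[],[]),(0,[],[]),(0,[],[]),(0,[],[]),(0,[],[]),(0,[],[]),(0,[],[]),(0,[],[]),(0,[],[]),(0,[],[]),(22,[33,3743,4436,4438,4676,4678,4680,4682,4684,4686,4688,4690,4692,4694,4696,4698,4700,4702],[4609,36,4165,4631,4629]),(0,[],[]),(0,[],[]),(0,[],[]),(0,[],[]),(24,[33,3743,4436,4438,4440,4540,4640,4642,4644,4646,4648,4650,4652,4654,4708,4710,4712],[4609,36,4165,4631,4629,4705]),(29,[33,4264,29,3910,3386,2880,3504,3610,3612,3818,3820,3822,3824,3826,3828],[4609,36,4165,4631,4629,4705,4715,4713,4711,4709]),(0,[],[]),(0,[],[]),(3,[3694,4718,4720],[36,3835]),(0,[],[]),(0,[],[]),(0,[],[]),(0,[],[]),(4,[36,38,40,4724,4726,4728,4730],[35,33,31,4096]),(0,[],[]),(0,[],[]),(0,[],[]),(0,[],[]),(0,[],[]),(0,[],[]),(0,[],[]),(0,[],[]),(0,[],[]),(0,[],[]),(0,[],[]),(8,[36,3835,4734,4736,4738,4740,4742,4744,4746,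4748,4750,4752,4754],[35,33,3743,3741,3739,3737]),(0,[],[]),(0,[],[]),(0,[],[]),(0,[],[]),(0,[],[]),(0,[],[]),(0,[],[]),(0,[],[]),(0,[],[]),(0,[],[]),(0,[],[]),(0,[],[]),(7,[3694,4718,4720,4758,4760,4762,4764,4766,4768,4770,4772,4774,4776,4778,4780],[35,33,31,29,3568,3959,3957,3979]),(24,[36,3835,4734,4736,4738,4740,4742,4744,4746,4748,4750,4752,4754,4756,3735],[35,33,31,29,27,3386,2971,2969,2967]),(1,[4784],[]),(1,[4787,3733],[]),(1,[4787,3734],[]),(1,[4442,4790],[]),(1,[4792],[]),(1,[4795,4441],[]),(1,[4795,4442],[]),(0,[],[]),(0,[],[]),(0,[],[]),(0,[],[]),(0,[],[]),(0,[],[]),(0,[],[]),(0,[],[]),(0,[],[]),(0,[],[]),(0,[],[]),(27,[36,38,40,4724,4800,4802,4804,4806,4808,4810,4812,4814,4816,4818,4820],[35,33,31,29,3568,3921,3919,4531,3576,4196]),(0,[],[]),(0,[],[]),(0,[],[]),(0,[],[]),(0,[],[]),(0,[],[]),(0,[],[]),(0,[],[]),(0,[],[]),(0,[],[]),(0,[],[]),(0,[],[]),(0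,[],[]),(0,[],[]),(0,[],[]),(0,[],[]),(0,[],[]),(0,[],[]),(0,[],[]),(0,[],[]),(0,[],[]),(0,[],[]),(0,[],[]),(30,[36,38,4824,4826,4836,4838,4840,4842,4844,4846,4848,4850,4852,4854,4856,4858,4860,4862,4864,4866,4868],[35,33,31,29,27,25,23,21,19,17,15,13,2060,2062]),(2,[38],[4165]),(1,[4873],[]),(1,[4875,4164],[]),(1,[4875,4163],[]),(1,[41,4878],[]),(1,[4875,4631],[]),(1,[4825,4882],[]),(1,[4881],[]),(1,[4887,4161],[]),(1,[4887,4632],[]),(1,[43,4890],[]),(1,[4884],[]),(1,[4895,4826],[]),(1,[4895,4825],[]),(1,[4893],[]),(1,[4901,4634],[]),(4,[3835,4734,4736,4738],[4877,4899,4629,4705,4715,4713,4711,4709]),(1,[4904],[]),(1,[4907,4739],[]),(1,[4716,4908],[]),(1,[4911],[]),(1,[4913,4737],[]),(1,[3831,4914],[]),(1,[4917],[]),(1,[4919,4735],[]),(0,[],[]),(0,[],[]),(0,[],[]),(0,[],[]),(0,[],[]),(0,[],[]),(0,[],[]),(0,[],[]),(0,[],[]),(0,[],[]),(6,[40,4724,4800,4926,4928,4930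,4932,4934,4936,4938,4940],[39,3835,3833,4675]),(0,[],[]),(0,[],[]),(0,[],[]),(0,[],[]),(0,[],[]),(0,[],[]),(0,[],[]),(0,[],[]),(0,[],[]),(15,[40,42,44,4950,4952,4954,4956,4958,4960],[39,3835,3833,4675,4943,4941,4939,4937,4935,4933,4931,4929]),(0,[],[]),(0,[],[]),(0,[],[]),(0,[],[]),(0,[],[]),(2,[4724],[4888]),(1,[4974],[]),(1,[4977,4725],[]),(1,[4977,4800],[]),(1,[4977,4726],[]),(1,[4158,4982],[]),(1,[4985],[]),(1,[4987,4728],[]),(0,[],[]),(0,[],[]),(0,[],[]),(0,[],[]),(0,[],[])]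

theorem ok9 : data.stepsOK st9 2250 = true := by decide +kernel

def st10 : List Step := [(6,[42,44,46,48,50,52,4990,4992,4994,4996,4998],[4888,4159,4157,4706]),(0,[],[]),(0,[],[]),(0,[],[]),(0,[],[]),(0,[],[]),(15,[42,4902,4946,4964,5002,5004,5006,5008,5010],[4888,4159,4157,4706,5001,4999,4997,4995,4993,4991,53,51]),(0,[],[]),(0,[],[]),(0,[],[]),(0,[],[]),(0,[],[]),(0,[],[]),(0,[],[]),(0,[],[]),(16,[41,4899,4896,4828,4830,4832,4834,5014,5016,5018,5020,5022,5024,5026,5028],[4888,4159,4157,4706,5001,4999]),(0,[],[]),(0,[],[]),(0,[],[]),(0,[],[]),(0,[],[]),(0,[],[]),(0,[],[]),(0,[],[]),(28,[41,4899,4639,4944,4970,4972,5032,5034,5036,5038,5040,5042,5044,5046],[4888,4159,4157,4706,5001,4999,4997,4995,4993,4991,54]),(0,[],[]),(0,[],[]),(0,[],[]),(0,[],[]),(0,[],[]),(0,[],[]),(0,[],[]),(0,[],[]),(0,[],[]),(0,[],[]),(0,[],[]),(0,[],[]),(0,[],[]),(0,[],[]),(0,[],[]),(0,[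],[]),(0,[],[]),(0,[],[]),(0,[],[]),(0,[],[]),(0,[],[]),(0,[],[]),(0,[],[]),(0,[],[]),(0,[],[]),(0,[],[]),(0,[],[]),(0,[],[]),(0,[],[]),(0,[],[]),(0,[],[]),(0,[],[]),(0,[],[]),(0,[],[]),(0,[],[]),(0,[],[]),(31,[41,4876,3835,4921,4675,4673,4671,5050,5052,5054,5056,5058,5060,5062,5064,5066,5068,5070,5072,5074,5076,5078,5080,5082,5084,5086,5088,5090,5092,5094,5096,5098,5100,5102,5104,5106,5108,5110,5112,5114,5116,5118,5120],[4888,4159,4157,4706,5001,4999,5031,5029]),(2,[44],[]),(0,[],[]),(0,[],[]),(0,[],[]),(0,[],[]),(4,[43,4979,4980,4926,4963,5126,5128,5130,5132],[5125,4950]),(0,[],[]),(0,[],[]),(0,[],[]),(0,[],[]),(0,[],[]),(0,[],[]),(0,[],[]),(6,[4902,4946,4948,4966,4968,5136,5138,5140,5142,5144,5146,5148],[5125,4950,5135]),(0,[],[]),(0,[],[]),(0,[],[]),(11,[43,4979,4980,4926,4963,5126,5128,5130,5152,5154,5156],[5125,4950,5135,5151]),(0,[],[]),(0,[],[]),(0,[],[]),(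0,[],[]),(0,[],[]),(0,[],[]),(0,[],[]),(0,[],[]),(0,[],[]),(8,[43,41,4876,37,4608,4430,4468,4470,5160,5162,5164,5166,5168,5170,5172,5174,5176],[5125,4950]),(0,[],[]),(0,[],[]),(0,[],[]),(0,[],[]),(0,[],[]),(0,[],[]),(0,[],[]),(16,[43,41,4876,37,3694,3696,4239,4922,5180,5182,5184,5186,5188,5190,5192],[5125,4950,5135,5151,5149,5147]),(0,[],[]),(0,[],[]),(0,[],[]),(0,[],[]),(0,[],[]),(0,[],[]),(0,[],[]),(0,[],[]),(0,[],[]),(22,[43,41,4876,37,3694,3696,4239,4922,4924,5196,5198,5200,5202,5204,5206,5208,5210,5212],[5125,4950,5135,5151,5149]),(0,[],[]),(0,[],[]),(0,[],[]),(0,[],[]),(0,[],[]),(0,[],[]),(0,[],[]),(0,[],[]),(0,[],[]),(23,[43,4979,4980,4926,4963,5216,5218,5220,5222,5224,5226,5228,5230,5232],[5125,4950,5135,5151,5149,5215,5213,5211,5209]),(0,[],[]),(0,[],[]),(0,[],[]),(24,[43,41,4876,37,4608,4430,4468,4470,5160,5162,5164,5166,5168,5170,5236,5238,5240],[5125,49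50,5135,5151,5149,5215]),(25,[43,41,4876,37,4608,4430,4468,4470,4472,4474,4476,4478],[5125,4950,5135,5151,5149,5147,5195,5193,5191,5189,5187,5185,5183,5181]),(1,[5245],[]),(1,[5247,4924],[]),(1,[4478,5248],[]),(1,[5247,5180],[]),(1,[5251],[]),(1,[5255,5196],[]),(0,[],[]),(0,[],[]),(0,[],[]),(0,[],[]),(3,[46,5262,5264],[4950,5179]),(4,[4950,4952,4954,4956,4958,4960,4962],[45,43,4888,4980]),(0,[],[]),(0,[],[]),(0,[],[]),(0,[],[]),(0,[],[]),(0,[],[]),(0,[],[]),(0,[],[]),(0,[],[]),(0,[],[]),(5,[46,5262,5264,5270,5272,5274,5276,5278,5280,5282,5284,5286,5288],[45,43,41,39,3835,4723,4721]),(0,[],[]),(0,[],[]),(0,[],[]),(0,[],[]),(0,[],[]),(0,[],[]),(15,[46,5262,5292,5294,5296,5298,5300,5302],[45,43,4888,4159,4157,4706,5001,4999,4997,4995,4993,4991,54]),(0,[],[]),(0,[],[]),(0,[],[]),(17,[4950,5179,5267,5270,5306,5308,5310],[45,43,41,39,3835,4723,4721,5291,5289,5287,5285,52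83,5281,5279,5277]),(0,[],[]),(0,[],[]),(0,[],[]),(0,[],[]),(0,[],[]),(0,[],[]),(0,[],[]),(0,[],[]),(0,[],[]),(0,[],[]),(0,[],[]),(0,[],[]),(0,[],[]),(0,[],[]),(29,[4950,4952,5320,5322,5324,5326,5328,5330,5332,5334,5336,5338,5340],[45,43,4888,4159,4157,4155,4153,4097,4265,32,4609,3694]),(2,[48],[]),(0,[],[]),(0,[],[]),(0,[],[]),(0,[],[]),(0,[],[]),(0,[],[]),(0,[],[]),(0,[],[]),(0,[],[]),(0,[],[]),(6,[5262,5292,5346,5348,5350,5352,5354,5356,5358,5360,5362,5364],[5345,5013,5011]),(0,[],[]),(0,[],[]),(0,[],[]),(0,[],[]),(0,[],[]),(0,[],[]),(0,[],[]),(0,[],[]),(0,[],[]),(0,[],[]),(0,[],[]),(8,[47,4950,4952,4954,4956,5318,5368,5370,5372,5374,5376,5378,5380,5382,5384,5386,5388],[5345,5013]),(0,[],[]),(0,[],[]),(0,[],[]),(0,[],[]),(0,[],[]),(3,[50,5398,5400],[5013,5391]),(0,[],[]),(0,[],[]),(0,[],[]),(0,[],[]),(0,[],[]),(0,[],[]),(0,[],[]),(0,[],[]),(0,[],[]),(0,[],[]),(0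,[],[]),(0,[],[]),(0,[],[]),(0,[],[]),(8,[5013,5391,5410,5412,5414,5416,5418,5420,5422,5424,5426,5428,5430],[49,47,4950,5135,5133,5131]),(0,[],[]),(0,[],[]),(0,[],[]),(0,[],[]),(0,[],[]),(0,[],[]),(0,[],[]),(24,[5013,5391,5410,5412,5414,5416,5418,5420,5422,5424,5426,5428,5430,5432,5129],[49,47,45,43,4888,4980,5269,4963,4961]),(1,[5448],[]),(1,[5451,5127],[]),(1,[5451,5128],[]),(1,[4958,5454],[]),(1,[5457],[]),(1,[5459,5130],[]),(0,[],[]),(0,[],[]),(0,[],[]),(0,[],[]),(0,[],[]),(0,[],[]),(0,[],[]),(28,[5013,5391,5403,5434,5444,5446,5464,5466,5468,5470,5472,5474],[49,47,45,43,4888,4159,4157,4706,5001,4999,5031,5029,5123]),(2,[52],[]),(0,[],[]),(0,[],[]),(0,[],[]),(0,[],[]),(0,[],[]),(0,[],[]),(0,[],[]),(0,[],[]),(0,[],[]),(0,[],[])]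

theorem ok10 : data.stepsOK st10 2500 = true := by decide +kernel

def st11 : List Step := [(6,[5398,5436,5480,5482,5484,5486,5488,5490,5492,5494,5496,5498],[5479,54,5305]),(0,[],[]),(0,[],[]),(0,[],[]),(11,[51,5344,5262,5292,5294,5296,5298,5300,5502,5504,5506],[5479,54,5305,5501]),(0,[],[]),(0,[],[]),(0,[],[]),(0,[],[]),(0,[],[]),(0,[],[]),(0,[],[]),(0,[],[]),(8,[51,5013,5404,5406,5408,5462,5510,5512,5514,5516,5518,5520,5522,5524],[5479,54,5049,5047,5045]),(0,[],[]),(0,[],[]),(0,[],[]),(0,[],[]),(0,[],[]),(0,[],[]),(0,[],[]),(0,[],[]),(0,[],[]),(5,[5398,5400,5402,5410,5412,5440,5442,5528,5530,5532,5534,5536,5538,5540,5542,5544],[5479,54,5049,5047]),(0,[],[]),(0,[],[]),(0,[],[]),(0,[],[]),(0,[],[]),(0,[],[]),(0,[],[]),(0,[],[]),(0,[],[]),(0,[],[]),(0,[],[]),(16,[51,5013,5404,5406,5548,5550,5552,5554,5556,5558,5560,5562,5564,5566,5568],[5479,54,5305,5501,5499,5497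]),(0,[],[]),(0,[],[]),(0,[],[]),(0,[],[]),(0,[],[]),(0,[],[]),(0,[],[]),(0,[],[]),(0,[],[]),(0,[],[]),(7,[5398,5400,5402,5410,5412,5414,5416,5572,5574,5576,5578,5580,5582,5584,5586,5588,5590],[5479,54,5305,5501,5509,5507]),(0,[],[]),(0,[],[]),(0,[],[]),(0,[],[]),(0,[],[]),(0,[],[]),(0,[],[]),(0,[],[]),(0,[],[]),(0,[],[]),(22,[51,5013,5404,5406,5548,5550,5552,5554,5594,5596,5598,5600,5602,5604,5606,5608,5610,5612],[5479,54,5305,5501,5499]),(0,[],[]),(0,[],[]),(0,[],[]),(0,[],[]),(0,[],[]),(0,[],[]),(0,[],[]),(0,[],[]),(0,[],[]),(23,[51,5344,5262,5292,5294,5616,5618,5620,5622,5624,5626,5628,5630,5632],[5479,54,5305,5501,5499,5615,5613,5611,5609]),(0,[],[]),(0,[],[]),(0,[],[]),(24,[51,5013,5404,5406,5408,5462,5510,5512,5514,5516,5518,5520,5522,5524,5636,5638,5640],[5479,54,5305,5501,5499,5615]),(0,[],[]),(29,[51,5344,47,5124,4902,4636,4944,4970,4972,5032,5034,5036,50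38,5040,5042],[5479,54,5305,5501,5499,5615,5643,5641,5639,5637]),(0,[],[]),(0,[],[]),(0,[],[]),(0,[],[]),(4,[54,56,58,5648,5650,5652,5654],[53,51,49,5262]),(0,[],[]),(0,[],[]),(0,[],[]),(0,[],[]),(0,[],[]),(0,[],[]),(0,[],[]),(0,[],[]),(0,[],[]),(0,[],[]),(0,[],[]),(0,[],[]),(0,[],[]),(0,[],[]),(0,[],[]),(0,[],[]),(0,[],[]),(0,[],[]),(0,[],[]),(0,[],[]),(0,[],[]),(0,[],[]),(0,[],[]),(0,[],[]),(0,[],[]),(0,[],[]),(0,[],[]),(0,[],[]),(0,[],[]),(0,[],[]),(0,[],[]),(30,[54,56,5674,5676,5686,5688,5690,5692,5694,5696,5698,5700,5702,5704,5706,5708,5710,5712,5714,5716,5718],[53,51,49,47,45,43,41,39,37,35,33,31,4096,4098]),(2,[56],[5305]),(1,[5723],[]),(1,[5725,5304],[]),(1,[5725,5303],[]),(1,[59,5728],[]),(1,[5725,5501],[]),(1,[5675,5732],[]),(1,[5731],[]),(1,[5737,5301],[]),(1,[5737,5502],[]),(1,[61,5740],[]),(1,[5734],[]),(1,[5745,5676],[]),(1,[5745,5675],[]),(1,[5743],[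]),(1,[5751,5504],[]),(4,[5049,5658,5660,5662],[5727,5749,5499,5615,5643,5641,5639,5637]),(1,[5754],[]),(1,[5757,5663],[]),(1,[5646,5758],[]),(1,[5761],[]),(1,[5763,5661],[]),(1,[5045,5764],[]),(1,[5767],[]),(1,[5769,5659],[]),(11,[5049,5771,5045,5646,5636,5638,5640,5642,5613],[5727,5749,5499,5497,5571,5569,5567]),(1,[5772],[]),(1,[5775,5611],[]),(1,[5564,5776],[]),(1,[5775,5612],[]),(1,[5779],[]),(1,[5783,5609],[]),(1,[5562,5784],[]),(1,[5787],[]),(1,[5789,5635],[]),(0,[],[]),(0,[],[]),(4,[5749,5746,5678,5792,5794],[57,5049,5047,5045,5527,5636]),(0,[],[]),(0,[],[]),(0,[],[]),(0,[],[]),(0,[],[]),(0,[],[]),(0,[],[]),(0,[],[]),(6,[58,5648,5666,5798,5800,5802,5804,5806,5808,5810,5812],[57,5049,5047,5547]),(0,[],[]),(0,[],[]),(0,[],[]),(0,[],[]),(0,[],[]),(0,[],[]),(0,[],[]),(0,[],[]),(15,[58,60,62,5820,5822,5824,5826,5828,5830],[57,5049,5047,5547,5815,5813,5811,5809,5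807,5805,5803,5801]),(0,[],[]),(0,[],[]),(0,[],[]),(0,[],[]),(2,[5648],[5738]),(1,[5842],[]),(1,[5845,5649],[]),(1,[5845,5666],[]),(1,[5845,5650],[]),(1,[5298,5850],[]),(1,[5853],[]),(1,[5855,5652],[]),(1,[5855,5664],[]),(0,[],[]),(0,[],[]),(0,[],[]),(0,[],[]),(0,[],[]),(6,[60,62,64,66,68,70,5860,5862,5864,5866,5868],[5738,5299,5297,5616]),(0,[],[]),(11,[59,5726,55,5478,51,5344,5262,5292,5346,5644,5872],[5738,5299,5297,5616]),(0,[],[]),(0,[],[]),(0,[],[]),(0,[],[]),(0,[],[]),(0,[],[]),(0,[],[]),(0,[],[]),(0,[],[]),(0,[],[]),(0,[],[]),(0,[],[]),(0,[],[]),(15,[60,5752,5818,5834,5892,5894,5896,5898,5900],[5738,5299,5297,5616,5871,5869,5867,5865,5863,5861,71,69]),(0,[],[]),(0,[],[]),(0,[],[]),(0,[],[]),(0,[],[]),(0,[],[]),(0,[],[]),(0,[],[]),(16,[59,5749,5746,5678,5680,5682,5684,5904,5906,5908,5910,5912,5914,5916,5918],[5738,5299,5297,5616,5871,5869]),(0,[],[]),(0,[],[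]),(0,[],[]),(0,[],[]),(0,[],[]),(0,[],[]),(0,[],[]),(0,[],[]),(0,[],[]),(0,[],[]),(22,[59,5749,5746,5678,5680,5682,5684,5904,5922,5924,5926,5928,5930,5932,5934,5936,5938,5940],[5738,5299,5297,5616,5871]),(0,[],[]),(0,[],[]),(0,[],[]),(24,[59,5749,5746,5678,5792,5840,5876,5878,5880,5882,5884,5886,5888,5890,5944,5946,5948],[5738,5299,5297,5616,5871,5943]),(0,[],[]),(0,[],[]),(0,[],[]),(0,[],[]),(0,[],[]),(0,[],[]),(0,[],[]),(0,[],[]),(28,[59,5749,5509,5816,5836,5838,5952,5954,5956,5958,5960,5962,5964,5966],[5738,5299,5297,5616,5871,5869,5867,5865,5863,5861,72]),(0,[],[]),(0,[],[]),(0,[],[]),(0,[],[]),(0,[],[]),(0,[],[]),(0,[],[]),(0,[],[]),(0,[],[]),(0,[],[]),(0,[],[]),(0,[],[]),(0,[],[]),(0,[],[]),(0,[],[])]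

theorem ok11 : data.stepsOK st11 2750 = true := by decide +kernel

end

end X7
end HN
end H39
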