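import Cfsg.Agent.H39.HN.X7.Data

/-!
Steps of a derivation (generated data).
-/

set_option autoImplicit false
set_option maxRecDepth 100000
set_option linter.all false
set_option Elab.async false

namespace H39
namespace HN
namespace X7

open H93.CosetI

noncomputable section

def st12 : List Step := [(0,[],[]),(0,[],[]),(0,[],[]),(0,[],[]),(0,[],[]),(0,[],[]),(0,[],[]),(0,[],[]),(0,[],[]),(0,[],[]),(0,[],[]),(0,[],[]),(0,[],[]),(0,[],[]),(0,[],[]),(0,[],[]),(0,[],[]),(0,[],[]),(0,[],[]),(0,[],[]),(0,[],[]),(31,[59,5726,5049,5771,5547,5545,5543,5970,5972,5974,5976,5978,5980,5982,5984,5986,5988,5990,5992,5994,5996,5998,6000,6002,6004,6006,6008,6010,6012,6014,6016,6018,6020,6022,6024,6026,6028,6030,6032,6034,6036,6038,6040],[5738,5299,5297,5616,5871,5869,5921,5919]),(2,[62],[]),(0,[],[]),(0,[],[]),(0,[],[]),(0,[],[]),(0,[],[]),(0,[],[]),(0,[],[]),(0,[],[]),(0,[],[]),(8,[61,59,5726,55,5478,5398,5436,543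8,6046,6048,6050,6052,6054,6056,6058,6060,6062],[6045,5820]),(0,[],[]),(0,[],[]),(0,[],[]),(0,[],[]),(3,[64,6070,6072],[5820,6065]),(4,[5820,5822,5824,5826,5828,5830,5832],[63,61,5738,5848]),(0,[],[]),(11,[5820,5822,5824,5826,5828,5830,5832,6076,5668,6078],[63,61,5738,5299,5858]),(0,[],[]),(0,[],[]),(0,[],[]),(0,[],[]),(0,[],[]),(0,[],[]),(0,[],[]),(0,[],[]),(0,[],[]),(15,[64,6070,6088,6090,6092,6094,6096,6098],[63,61,5738,5299,5297,5616,5871,5869,5867,5865,5863,5861,72]),(0,[],[]),(0,[],[]),(0,[],[]),(0,[],[]),(0,[],[]),(0,[],[]),(0,[],[]),(0,[],[]),(16,[5820,6065,6082,6084,6102,6104,6106,6108,6110,6112,6114,6116],[63,61,5738,5299,5297,5616,5875,5873,5645]),(0,[],[]),(0,[],[]),(0,[],[]),(0,[],[]),(0,[],[]),(21,[5820,6065,6082,6124,6126,6128],[63,61,5738,5299,5297,5616,5875,5873,5645,6119,6117,6115,6113,6111,6109,6107,6105]),(0,[],[]),(0,[],[]),(0,[],[]),(0,[],[]),(0,[],[]),(0,[],[]),(0,[],[]),(0,[],[]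),(0,[],[]),(0,[],[]),(28,[5820,6065,6075,6086,6120,6122,6134,6136,6138,6140,6142,6144,6146,6148,6150],[63,61,5738,5299,5297,5616,5871,5869,5867,5865]),(2,[66],[]),(0,[],[]),(0,[],[]),(0,[],[]),(0,[],[]),(0,[],[]),(0,[],[]),(0,[],[]),(0,[],[]),(0,[],[]),(0,[],[]),(6,[6070,6088,6156,6158,6160,6162,6164,6166,6168,6170,6172,6174],[6155,5903,5901]),(0,[],[]),(0,[],[]),(0,[],[]),(0,[],[]),(0,[],[]),(0,[],[]),(0,[],[]),(0,[],[]),(0,[],[]),(0,[],[]),(0,[],[]),(0,[],[]),(8,[65,5820,5822,5824,5826,6132,6180,6182,6184,6186,6188,6190,6192,6194,6196,6198,6200],[6155,5903]),(0,[],[]),(0,[],[]),(0,[],[]),(0,[],[]),(0,[],[]),(0,[],[]),(0,[],[]),(0,[],[]),(0,[],[]),(5,[6070,6072,6074,6082,6084,6102,6104,6204,6206,6208,6210,6212,6214,6216,6218,6220],[6155,5903,6203,6201]),(0,[],[]),(14,[65,5820,6065,6082,6084,6102,6104,6106,6224],[6155,5903,6203,6201,6223,6221,6219,6217,6215,6213,6211]),(0,[],[]),(0,[],[]),(0,[],[]),(0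,[],[]),(0,[],[]),(18,[6070,6072,6074,6082,6124,6126,6128,6130,6104,6106,6224,6226,6210,6212,6214,6216,6236],[6155,5903,6203,6201,6199]),(0,[],[]),(0,[],[]),(0,[],[]),(0,[],[]),(0,[],[]),(0,[],[]),(0,[],[]),(0,[],[]),(0,[],[]),(0,[],[]),(22,[65,5820,5822,5824,6228,6230,6232,6234,6240,6242,6244,6246,6248,6250,6252,6254,6256,6258],[6155,5903,5901,6177,6175]),(0,[],[]),(0,[],[]),(0,[],[]),(24,[65,5820,5822,5824,5826,6132,6180,6182,6184,6186,6188,6190,6192,6194,6262,6264,6266],[6155,5903,5901,6177,6175,6261]),(0,[],[]),(0,[],[]),(0,[],[]),(0,[],[]),(0,[],[]),(0,[],[]),(0,[],[]),(29,[65,6044,61,5847,5848,5668,5670,5672,6270,6272,6274,6276,6278,6280,6282],[6155,5903,5901,6177,6175,6261,6269,6267,6265,6263]),(2,[70],[]),(2,[74],[6101]),(1,[6289],[]),(1,[6291,6100],[]),(1,[6291,6099],[]),(1,[77,6294],[]),(1,[6297],[]),(1,[6299,6097],[]),(2,[],[6300]),(2,[80],[]),(2,[84],[]),(2,[88],[]),(2,[92],[]),(2,[102],[])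,(2,[106],[]),(2,[110],[]),(3,[578,1600],[155,219,2699]),(2,[156],[2289]),(1,[6321],[]),(1,[6323,2288],[]),(1,[6323,2287],[]),(1,[665,6326],[]),(1,[6329],[]),(1,[6331,2285],[]),(4,[131,126,578,580,677,1948,1950,1952,669],[6325,664,6332]),(1,[6335],[]),(1,[6337,6333],[]),(1,[6337,2283],[]),(1,[1877,6340],[]),(1,[6343],[]),(1,[6345,2281],[]),(11,[131,126,578,580,677,1948,1950,1952,1900,1902,1904,1906],[6325,664,6339,1876]),(1,[6348],[]),(1,[6351,1908],[]),(1,[1879,6352],[]),(1,[6351,1907],[]),(1,[6355],[]),(1,[6359,1910],[]),(1,[1881,6360],[]),(1,[6363],[]),(1,[6365,1939],[]),(1,[6365,1912],[]),(1,[1883,6368],[]),(1,[6371],[]),(1,[6373,1914],[]),(1,[1885,6374],[]),(1,[6377],[]),(1,[6379,1916],[]),(23,[131,126,578,580,677,1822,1824,1826,1828,1830,1832,1940,1942,1944,1946,6381],[6325,664,6339,1876,6346,2279,2277,2275]),(1,[6383],[]),(1,[6385,2274],[]),(1,[6385,2273],[]),(1,[6381,6388],[]),(1,[6391],[]),(1,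[6393,2271],[]),(1,[1919,6394],[]),(1,[6397],[]),(1,[6399,2269],[]),(24,[131,0,2,4,140,412,956,1061,1920,1922,1924,1926,1928,1930,1932,1934,1936,6367,1881],[6325,664,6339,1876,6346]),(1,[6403],[]),(1,[6405,6347],[]),(1,[6405,2279],[]),(1,[1881,6408],[]),(1,[6411],[]),(1,[6413,2277],[]),(1,[1883,6414],[]),(1,[6417],[]),(1,[6419,6387],[]),(2,[254],[2115]),(1,[6423],[]),(1,[6425,2114],[]),(1,[6425,2113],[]),(1,[257,6428],[]),(1,[6431],[]),(1,[6433,2111],[]),(1,[697,6434],[]),(1,[6437],[]),(1,[6439,2109],[]),(2,[220],[1013]),(1,[6443],[]),(1,[6445,1012],[]),(1,[6445,1011],[]),(1,[223,6448],[]),(1,[6451],[]),(1,[6453,1009],[]),(1,[6453,1097],[]),(1,[225,6456],[]),(1,[6459],[]),(1,[6461,1095],[]),(1,[300,6462],[]),(1,[6465],[]),(1,[6467,1035],[]),(2,[188],[955]),(1,[6471],[]),(1,[6473,954],[]),(1,[6473,953],[]),(1,[191,6476],[]),(1,[6473,975],[]),(1,[341,6480],[]),(1,[6479],[]),(1,[6485,951],[]),(1,[6485,976],[]),(1,[271,6488],[]),(1,[6483],[]),(1,[6493,973],[]),(1,[6493,983],[]),(1,[343,6496],[])]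

theorem ok12 : data.stepsOK st12 3000 = true := by decide +kernel

def st13 : List Step := [(1,[6491],[]),(1,[6501,978],[]),(1,[346,6502],[]),(1,[6499],[]),(1,[6507,1233],[]),(1,[6505],[]),(1,[6511,1131],[]),(4,[137,220,222,314],[6475,340,6494,1157,1185,1183,1181,1179]),(1,[6515],[]),(1,[6517,6455],[]),(1,[6517,1279],[]),(1,[314,6520],[]),(1,[6517,1007],[]),(1,[317,6524],[]),(1,[6517,1178],[]),(1,[6523],[]),(1,[6531,1277],[]),(1,[225,6532],[]),(1,[6527],[]),(1,[6537,1005],[]),(1,[6535],[]),(1,[6541,1275],[]),(11,[137,220,222,314,6528,1180,1182,1184,1155],[6475,340,6494,971,1085,1083,1081]),(1,[6544],[]),(1,[6547,1153],[]),(1,[1078,6548],[]),(1,[6547,1154],[]),(1,[6551],[]),(1,[6555,1151],[]),(1,[1076,6556],[]),(1,[6559],[]),(1,[6561,1177],[]),(2,[144],[1417]),(1,[6565],[]),(1,[6567,1416],[]),(1,[6567,1415],[]),(1,[147,6570],[]),(1,[6567,1431],[]),(1,[1997,6574],[]),(1,[6573],[]),(1,[6579,1413],[]),(1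,[6579,1432],[]),(1,[1975,6582],[]),(1,[6576],[]),(1,[6587,1997],[]),(1,[6587,1998],[]),(1,[1438,6590],[]),(1,[6584],[]),(1,[6595,1976],[]),(1,[6595,1975],[]),(1,[6593],[]),(1,[6601,2000],[]),(1,[6601,2046],[]),(1,[1436,6604],[]),(1,[6607],[]),(1,[6609,2048],[]),(4,[370,372,374,2536,2538,2540,2542],[6569,6589,1429,1563,1589]),(1,[6612],[]),(1,[6615,2544],[]),(1,[6615,2543],[]),(1,[1586,6618],[]),(1,[6621],[]),(1,[6623,2541],[]),(1,[1584,6624],[]),(1,[6627],[]),(1,[6629,2539],[]),(1,[1582,6630],[]),(1,[6633],[]),(1,[6635,2537],[]),(1,[1664,6636],[]),(1,[6638],[]),(1,[6641,1664],[]),(1,[6641,1663],[]),(1,[377,6644],[]),(1,[6647],[]),(1,[6649,1661],[]),(11,[370,372,374,6642,1582,1584,1586,1588,1561],[6569,6589,1429,1427,1515,1513,1511]),(1,[6652],[]),(1,[6655,1559],[]),(1,[1508,6656],[]),(1,[6655,1560],[]),(1,[6659],[]),(1,[6663,1557],[]),(1,[1506,6664],[]),(1,[6667],[]),(1,[6669,1581],[]),(1,[6669,1555],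[]),(1,[1504,6672],[]),(1,[6675],[]),(1,[6677,1553],[]),(1,[1502,6678],[]),(1,[6681],[]),(1,[6683,1551],[]),(2,[148],[6580]),(1,[6687],[]),(1,[6689,6581],[]),(1,[6689,3026],[]),(1,[181,6692],[]),(1,[6689,1411],[]),(1,[151,6696],[]),(1,[6695],[]),(1,[6701,3028],[]),(1,[6699],[]),(1,[6705,1409],[]),(23,[147,6568,143,1406,5,466,468,470,472,474,476,478,480,482,484,486,488,490],[6691,150,6706,219,217,215]),(1,[6708],[]),(1,[6711,492],[]),(1,[6711,491],[]),(1,[304,6714],[]),(1,[6717],[]),(1,[6719,489],[]),(23,[150,152,154,128,0,139,188,190,270,272,274,1650,1652,1654,1656,1658,6651,377,375],[149,147,145,370,1461]),(1,[6723],[]),(1,[6725,1460],[]),(1,[6725,1459],[]),(1,[375,6728],[]),(1,[6725,1481],[]),(1,[6731],[]),(1,[6735,1457],[]),(29,[150,152,219,1564,1566,1568,1570,1572,1574,1576,1578,6671,1506,1508,6660],[149,147,145,370,6727,374,6736,1582,2779,2777]),(4,[219,1564,1566],[153,179,177,369,397,395,393,391,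6713]),(1,[6740],[]),(1,[6743,1568],[]),(1,[304,6744],[]),(1,[6743,1567],[]),(1,[215,6748],[]),(1,[6747],[]),(1,[6753,1570],[]),(1,[6751],[]),(1,[6757,1565],[]),(11,[219,6759,215,6712,390,392,394,396,367],[153,179,177,175,293,291,289]),(1,[6760],[]),(1,[6763,365],[]),(1,[286,6764],[]),(1,[6763,366],[]),(1,[6767],[]),(1,[6771,363],[]),(1,[284,6772],[]),(1,[6775],[]),(1,[6777,389],[]),(1,[6777,361],[]),(1,[282,6780],[]),(1,[6783],[]),(1,[6785,359],[]),(1,[280,6786],[]),(1,[6789],[]),(1,[6791,357],[]),(4,[664,666,668,670,672,674,676],[157,131,129,578,2093]),(1,[6795],[]),(1,[6797,2092],[]),(2,[160],[]),(2,[164],[]),(2,[168],[]),(2,[172],[]),(2,[176],[]),(2,[6702],[3293]),(1,[6811],[]),(1,[6813,3292],[]),(2,[],[339]),(2,[],[445]),(2,[192],[6486]),(1,[6821],[]),(1,[6823,6487],[]),(1,[6823,949],[]),(1,[567,6826],[]),(1,[6829],[]),(1,[6831,947],[]),(11,[191,6474,138,2,466,468,470,942,1200,1202,1896],[6825,566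,6832,1158]),(23,[566,568,570,572,574,599],[193,191,189,137,6447,222,224,6542,1273,1271,1269,1267,1265,1263,1261,1259,1257,1255]),(1,[6836],[]),(1,[6839,597],[]),(1,[6839,598],[]),(1,[494,6842],[]),(1,[6839,607],[]),(1,[497,6846],[]),(1,[6845],[]),(1,[6851,576],[]),(1,[6851,575],[]),(1,[471,6854],[]),(1,[6849],[]),(1,[6859,835],[]),(1,[6859,605],[]),(1,[545,6862],[]),(1,[6857],[]),(1,[6867,573],[]),(1,[6865],[]),(1,[6871,739],[]),(2,[196],[]),(2,[398],[]),(2,[202],[]),(2,[208],[]),(2,[226],[6542]),(1,[6883],[]),(1,[6885,6543],[]),(1,[6885,1273],[]),(1,[249,6888],[]),(1,[6891],[]),(1,[6893,1271],[]),(4,[225,314,316,608,610,790,792,794,741],[6887,248,6894]),(1,[6897],[]),(1,[6899,6895],[]),(1,[6899,1269],[]),(1,[681,6902],[]),(1,[6905],[]),(1,[6907,1267],[]),(11,[225,314,316,608,610,790,792,794,742,744,746,748],[6887,248,6901,680]),(1,[6910],[]),(1,[6913,750],[]),(1,[683,6914],[]),(1,[6917],[]),(1,[6919,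752],[]),(1,[685,6920],[]),(1,[6923],[]),(1,[6925,781],[]),(1,[6925,754],[]),(1,[687,6928],[]),(1,[6931],[]),(1,[6933,756],[]),(1,[689,6934],[]),(1,[6937],[]),(1,[6939,758],[]),(23,[225,314,316,608,610,612,614,616,618,620,622,782,784,786,788,6941],[6887,248,6901,680,6908,1265,1263,1261]),(1,[6943],[]),(1,[6945,1260],[]),(1,[6945,1259],[]),(1,[6941,6948],[]),(1,[6951],[]),(1,[6953,1257],[]),(1,[761,6954],[]),(1,[6957],[]),(1,[6959,1255],[]),(1,[6959,1280],[]),(1,[594,6962],[]),(1,[6965],[]),(1,[6967,1282],[]),(1,[694,6968],[]),(1,[6971],[]),(1,[6973,1284],[]),(24,[225,223,6446,136,188,190,192,566,762,764,766,768,770,772,774,776,778,6927,685],[6887,248,6901,680,6908]),(1,[6977],[]),(1,[6979,6909],[]),(1,[6979,1265],[]),(1,[685,6982],[]),(1,[6985],[]),(1,[6987,1263],[]),(1,[687,6988],[]),(1,[6991],[]),(1,[6993,6947],[]),(2,[234],[]),(2,[240],[])]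

theorem ok13 : data.stepsOK st13 3250 = true := by decide +kernel

def st14 : List Step := [(8,[256,696,836,838,840,842,844,846,848,850,852,854],[255,133,131,129,578,6799,582]),(2,[258],[]),(2,[262],[]),(4,[261,7002,257,6426,133,156,158,160,269],[7005,264]),(2,[272],[]),(4,[271,192,194,196,198,398,400,402,349],[7009,274]),(24,[271,191,6474,138,2,4,140,142,370,372,374,376,378,380,382,384,386,6779,283],[7009,274,7011,278]),(4,[274,276,348],[273,271,6825,194,6875,198,6877,400]),(4,[1650,1652,1654,1656],[7011,278,7013,282,6778,387,385,383]),(1,[7016],[]),(1,[7019,1657],[]),(1,[7019,1658],[]),(1,[380,7022],[]),(1,[7025],[]),(1,[7027,6651],[]),(2,[],[6778]),(2,[286],[]),(29,[285,7030,387],[7033,6768,397,395,393,391,6713,214,6758,218,153,151,149,147,145,370,6727,374,376,7029,380,382]),(2,[],[543]),(2,[446],[]),(2,[],[6468]),(2,[6754],[6720]),(1,[7042],[]),(1,[7045,6755],[]),(1,[7045,1572],[]),(1,[486,7048],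[]),(1,[7051],[]),(1,[7053,1574],[]),(2,[608],[6538]),(1,[7057],[]),(1,[7059,6539],[]),(1,[7059,1003],[]),(1,[611,7062],[]),(1,[7065],[]),(1,[7067,1001],[]),(1,[613,7068],[]),(1,[7071],[]),(1,[7073,999],[]),(2,[322],[]),(2,[326],[]),(2,[334],[]),(2,[856],[6494]),(1,[7083],[]),(1,[7085,6495],[]),(1,[7085,1157],[]),(1,[859,7088],[]),(1,[7085,971],[]),(1,[883,7092],[]),(1,[7091],[]),(1,[7097,1185],[]),(1,[7097,6553],[]),(1,[861,7100],[]),(1,[7095],[]),(1,[7105,969],[]),(1,[7105,1085],[]),(1,[885,7108],[]),(1,[7103],[]),(1,[7113,1079],[]),(1,[7113,1080],[]),(1,[7111],[]),(1,[7119,1329],[]),(1,[7119,1083],[]),(1,[933,7122],[]),(1,[7125],[]),(1,[7127,1405],[]),(1,[7127,7117],[]),(2,[1666],[6508]),(1,[7132],[]),(1,[7135,1667],[]),(1,[7135,1668],[]),(1,[1230,7138],[]),(1,[7141],[]),(1,[7143,1670],[]),(2,[1712],[6512]),(1,[7146],[]),(1,[7149,1713],[]),(1,[7149,1714],[]),(1,[1128,7152],[]),(1,[7155],[]),(1,[7157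,1716],[]),(2,[],[397]),(4,[375,6726,371,144,6589],[6736,1582,2779,2777,6739,1562]),(2,[],[7020]),(4,[387,7034,383,7164,1655],[7031,283,281,279,277,1650]),(2,[392],[]),(11,[413,1406,6,8,1048,1050,1052,1054,2220,2222],[2067,1061,1059,2192,3229]),(2,[416],[2637]),(1,[7173],[]),(1,[7175,2636],[]),(1,[7175,2635],[]),(1,[419,7178],[]),(1,[7181],[]),(1,[7183,2661],[]),(2,[420],[7184]),(1,[7187],[]),(1,[7189,7185],[]),(1,[7189,2659],[]),(2,[440],[]),(2,[450],[]),(2,[454],[]),(2,[460],[]),(4,[631,984,986,988],[6853,494,6840,761,789,787,785,783]),(1,[7202],[]),(1,[7205,989],[]),(1,[880,7206],[]),(1,[7205,990],[]),(1,[622,7210],[]),(1,[7209],[]),(1,[7215,1062],[]),(1,[878,7216],[]),(1,[7215,987],[]),(1,[7213],[]),(1,[7223,992],[]),(1,[7223,1518],[]),(1,[7219],[]),(1,[7229,1064],[]),(2,[942],[6868]),(1,[7232],[]),(1,[7235,943],[]),(1,[7235,1200],[]),(1,[7235,944],[]),(1,[570,7240],[]),(1,[7243],[]),(1,[7245,6833]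,[]),(1,[7245,1158],[]),(2,[474],[]),(4,[473,7237,7238,1440,1442,1590,1592,1594,1543],[7251,476]),(24,[473,471,6852,467,564,1,126,155,219,6759,215,305,7047,487,7054,1576,1578,6671,1505],[7251,476,7253,1500]),(2,[480],[]),(2,[484],[]),(2,[498],[6860]),(1,[7261],[]),(1,[7263,6861],[]),(1,[7263,833],[]),(1,[501,7266],[]),(1,[7269],[]),(1,[7271,831],[]),(2,[502],[7272]),(1,[7275],[]),(1,[7277,7273],[]),(1,[7277,829],[]),(1,[505,7280],[]),(1,[7283],[]),(1,[7285,3355],[]),(1,[7285,827],[]),(2,[506],[7286]),(1,[7291],[]),(1,[7293,7287],[]),(1,[7293,3353],[]),(1,[509,7296],[]),(1,[7299],[]),(1,[7301,3351],[]),(1,[511,7302],[]),(1,[7305],[]),(1,[7307,3349],[]),(2,[512],[7308]),(1,[7311],[]),(1,[7313,7309],[]),(2,[520],[]),(2,[524],[]),(2,[528],[]),(2,[534],[]),(2,[538],[]),(2,[546],[6872]),(1,[7327],[]),(1,[7329,6873],[]),(1,[7329,737],[]),(1,[549,7332],[]),(1,[7335],[]),(1,[7337,735],[]),(2,[],[7338]),(2,[552]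,[]),(2,[556],[]),(23,[571,7246,567,6824,191,340,856,858,860,862,864,866,868,870,872,874,876,878,7220],[7236,471,469,631,629]),(1,[7346],[]),(1,[7349,985],[]),(1,[7349,7221],[]),(1,[626,7352],[]),(1,[7349,1132],[]),(1,[656,7356],[]),(1,[7355],[]),(1,[7361,880],[]),(1,[7361,879],[]),(1,[704,7364],[]),(1,[7359],[]),(1,[7369,1864],[]),(1,[7369,1134],[]),(1,[654,7372],[]),(1,[7367],[]),(1,[7377,7230],[]),(1,[7377,877],[]),(1,[7375],[]),(1,[7383,1632],[]),(8,[677,1822,1824,1826],[581,579,155,153,151,149,6599,2153,2151,2149,2147,2145,2188,2217,2215,2213]),(1,[7387],[]),(1,[7389,2212],[]),(1,[7389,2083],[]),(1,[1829,7392],[]),(1,[7395],[]),(1,[7397,2081],[]),(1,[7397,2218],[]),(2,[588],[]),(2,[592],[]),(24,[610,612,614,616],[609,317,315,223,221,136,6475,340,7087,858,860,7114,1077,1075,1073,1071,1136,1191,1189,1187]),(1,[7407],[]),(1,[7409,1186],[]),(1,[7409,995],[]),(1,[619,7412],[]),(1,[7409,996],[]),(1,[616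,7416],[]),(1,[7415],[]),(1,[7421,7225],[]),(1,[7421,1192],[]),(1,[7419],[]),(1,[7427,7075],[]),(1,[7427,1199],[]),(25,[610,612,614,616,7410,1188,1190,1137],[609,317,315,223,221,135,133,131,0,565,466,631,629,627,705,7380,875,873]),(1,[7432],[]),(1,[7435,1069],[]),(1,[7435,1136],[]),(1,[7435,1070],[]),(1,[870,7440],[]),(1,[7443],[]),(1,[7445,1072],[]),(2,[790],[]),(2,[7410],[]),(4,[622,624,705,7378,1066,7437,7438],[621,619,7451,1188]),(8,[622,782,784,786,788,6941,6995,687,685,6980,681,740],[621,619,617,615,613,7449,792]),(2,[714],[]),(2,[636],[]),(2,[644],[]),(2,[650],[]),(2,[7384],[3123]),(1,[7465],[]),(1,[7467,3122],[]),(1,[7467,3163],[]),(2,[7370],[3183]),(1,[7473],[]),(1,[7475,3182],[]),(1,[7475,3181],[]),(2,[670],[1953]),(1,[7481],[]),(1,[7483,1952],[]),(1,[7483,1951],[]),(1,[673,7486],[]),(1,[7489],[]),(1,[7491,1949],[]),(2,[],[6926]),(2,[6974],[931]),(1,[7496],[])]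

theorem ok14 : data.stepsOK st14 3500 = true := by decide +kernel

def st15 : List Step := [(1,[7499,6975],[]),(1,[7499,1286],[]),(1,[928,7502],[]),(1,[7505],[]),(1,[7507,1288],[]),(2,[836],[6440]),(1,[7511],[]),(1,[7513,6441],[]),(1,[7513,2121],[]),(1,[839,7516],[]),(1,[7513,2107],[]),(1,[7519],[]),(1,[7523,2119],[]),(2,[7378],[7380]),(1,[7526],[]),(1,[7529,7379],[]),(1,[7529,1462],[]),(1,[7529,1066],[]),(1,[874,7534],[]),(1,[7537],[]),(1,[7539,7437],[]),(1,[7539,1482],[]),(24,[704,626,628,630,468,470,7237,571,7248,1160,1162,1164,1166,1168,1170,1172,1174,6563,1075],[7380,875,873,871,869]),(1,[7544],[]),(1,[7547,7447],[]),(1,[7547,1074],[]),(1,[866,7550],[]),(1,[7553],[]),(1,[7555,6562],[]),(2,[722],[]),(2,[726],[]),(2,[],[789]),(2,[764],[]),(2,[770],[]),(2,[784],[]),(2,[806],[]),(2,[810],[]),(2,[818],[]),(2,[822],[]),(2,[840],[]),(2,[844],[]),(2,[850],[]),(2,[],[7098]),(2,[],[7556]),(2,[],[7106]),(1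5,[883,858,7584,1183],[7106,967,965,963,961,959,957,413,141,5,3,139,137,6447,222,6519,6528]),(2,[886],[7120]),(1,[7593],[]),(1,[7595,7121],[]),(1,[7595,1327],[]),(1,[889,7598],[]),(1,[7601],[]),(1,[7603,1325],[]),(2,[890],[7604]),(1,[7607],[]),(1,[7609,7605],[]),(1,[7609,1323],[]),(1,[893,7612],[]),(1,[7615],[]),(1,[7617,1321],[]),(2,[894],[7618]),(1,[7621],[]),(1,[7623,7619],[]),(1,[7623,1319],[]),(1,[897,7626],[]),(1,[7629],[]),(1,[7631,1317],[]),(1,[899,7632],[]),(1,[7635],[]),(1,[7637,1315],[]),(2,[900],[7638]),(1,[7641],[]),(1,[7643,7639],[]),(1,[7643,1313],[]),(1,[903,7646],[]),(1,[7649],[]),(1,[7651,1311],[]),(2,[904],[7652]),(1,[7655],[]),(1,[7657,7653],[]),(1,[7657,1309],[]),(1,[907,7660],[]),(1,[7663],[]),(1,[7665,1307],[]),(2,[908],[7666]),(1,[7669],[]),(1,[7671,7667],[]),(1,[7671,1305],[]),(1,[911,7674],[]),(1,[7677],[]),(1,[7679,1303],[]),(2,[912],[7680]),(1,[7683],[]),(1,[7685,7681],[]),(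1,[7685,1301],[]),(1,[915,7688],[]),(1,[7691],[]),(1,[7693,1299],[]),(2,[916],[7694]),(1,[7697],[]),(1,[7699,7695],[]),(1,[7699,1297],[]),(1,[919,7702],[]),(1,[7705],[]),(1,[7707,1295],[]),(1,[921,7708],[]),(1,[7711],[]),(1,[7713,1293],[]),(2,[922],[7714]),(1,[7717],[]),(1,[7719,7715],[]),(1,[7719,1291],[]),(1,[925,7722],[]),(1,[7725],[]),(1,[7727,7509],[]),(2,[934],[7128]),(1,[7731],[]),(1,[7733,7129],[]),(2,[1014],[2579]),(1,[7737],[]),(1,[7739,2578],[]),(1,[7739,2577],[]),(1,[1087,7742],[]),(1,[7745],[]),(1,[7747,3189],[]),(23,[1061,2667,1057,2674,1794,1813],[957,413,141,5,3,1,130,6325,664,6339,1876,6407,1880,1882,6420,6380,1918,6400]),(1,[7751],[]),(1,[7753,2267],[]),(1,[1813,7754],[]),(1,[7756],[]),(1,[7759,1796],[]),(1,[7759,1795],[]),(1,[1053,7762],[]),(1,[7759,1813],[]),(1,[7765],[]),(1,[7769,1814],[]),(1,[2497,7770],[]),(1,[7772],[]),(1,[7775,2498],[]),(1,[7775,2737],[]),(1,[7775,2497],[]),(2,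[960],[]),(2,[964],[]),(23,[1086,1486,1488,1490,1492,2427],[1015,939,1787,1048,7761,1052,7781,7778,2735,2733,2731,2729,2727,2725,2723,2721,2719,2717]),(1,[7787],[]),(1,[7789,2715],[]),(1,[2427,7790],[]),(1,[7793],[]),(1,[7795,2567],[]),(1,[7795,2568],[]),(1,[1492,7798],[]),(1,[7801],[]),(1,[7803,2926],[]),(1,[2429,7804],[]),(1,[7807],[]),(1,[7809,2928],[]),(2,[1020],[]),(2,[1028],[]),(2,[2526],[]),(4,[1841,2072,2074,2076],[7761,7766,1811,1919,1947,1945,1943,1941]),(1,[7818],[]),(1,[7821,2077],[]),(1,[1994,7822],[]),(1,[7821,2078],[]),(1,[1832,7826],[]),(1,[7825],[]),(1,[7831,2136],[]),(1,[1992,7832],[]),(1,[7831,2075],[]),(1,[7829],[]),(1,[7839,7399],[]),(1,[7839,2502],[]),(1,[7835],[]),(1,[7845,2138],[]),(23,[1056,1058,1060,2066,413,142,144,146,6599,6596,1978,1980,1982,1984,1986,1988,1990,1992,7836],[1055,1053,1051,1841,1839]),(1,[7848],[]),(1,[7851,2073],[]),(1,[7851,7837],[]),(1,[1836,7854],[]),(1,[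7857],[]),(1,[7859,1994],[]),(1,[7859,1993],[]),(1,[1894,7862],[]),(1,[7865],[]),(1,[7867,7846],[]),(1,[7867,1991],[]),(2,[1160],[]),(2,[1166],[]),(8,[1165,1163,7872,7249,7246,567,6824,191,340,856,858,860,862,864,7586,1175],[7875,1168,1170]),(2,[1440],[]),(2,[1204],[]),(2,[1208],[]),(2,[1228,7144],[]),(1,[7884],[]),(1,[7887,7145],[]),(1,[7887,1672],[]),(1,[1226,7890],[]),(1,[7893],[]),(1,[7895,1674],[]),(2,[1420],[4263]),(1,[7899],[]),(1,[7901,4262],[]),(1,[7901,4261],[]),(1,[2264,7904],[]),(1,[7907],[]),(1,[7909,4259],[]),(1,[2618,7910],[]),(1,[7913],[]),(1,[7915,4257],[]),(1,[4061,7916],[]),(1,[7919],[]),(1,[7921,4255],[]),(11,[1419,2852,2560,2606,2608,2610,2612,2614,4066,4004,4006,4008],[7903,2265,2619,4060]),(1,[7924],[]),(1,[7927,4010],[]),(1,[3985,7928],[]),(1,[7931],[]),(1,[7933,4012],[]),(1,[3987,7934],[]),(1,[7937],[]),(1,[7939,4041],[]),(1,[7939,4014],[]),(1,[3989,7942],[]),(1,[7945],[]),(1,[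7947,4016],[]),(1,[3991,7948],[]),(1,[7951],[]),(1,[7953,4018],[]),(23,[1419,2852,2560,2606,2608,3940,3942,3944,3946,3948,3950,4042,4044,4046,4048,7955],[7903,2265,2619,4060,7922,4253,4251,4249]),(1,[7957],[]),(1,[7959,4248],[]),(1,[7959,4247],[]),(1,[7955,7962],[]),(1,[7965],[]),(1,[7967,4245],[]),(1,[4021,7968],[]),(1,[7971],[]),(1,[7973,4243],[]),(24,[1419,18,20,22,3681,3682,3486,3581,4022,4024,4026,4028,4030,4032,4034,4036,4038,7941,3987],[7903,2265,2619,4060,7922]),(1,[7977],[]),(1,[7979,7923],[]),(1,[7979,4253],[]),(1,[3987,7982],[]),(1,[7985],[]),(1,[7987,4251],[]),(1,[3989,7988],[]),(1,[7991],[]),(1,[7993,7961],[]),(29,[1419,2852,15,2404,2060,2062,2094,2154,2156,2246,2248,2250,2252,2254,2256],[7903,2265,2619,4060,7981,3986,7940,4039,4037,4035]),(4,[2265,4055,2617,4064,3432,3434,2609],[1421,1419,17,2560,4129])]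

theorem ok15 : data.stepsOK st15 3750 = true := by decide +kernel

end

end X7
end HN
end H39
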