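import Cfsg.Agent.H39.HN.X7.Data

/-!
Steps of a derivation (generated data).
-/

set_option autoImplicit false
set_option maxRecDepth 100000
set_option linter.all false
set_option Elab.async false

namespace H39
namespace HN
namespace X7

open H93.CosetI

noncomputable section

def st0 : List Step := [(0,[],[]),(0,[],[]),(0,[],[]),(0,[],[]),(0,[],[]),(0,[],[]),(0,[],[]),(0,[],[]),(0,[],[]),(0,[],[]),(0,[],[]),(0,[],[]),(0,[],[]),(0,[],[]),(0,[],[]),(0,[],[]),(0,[],[]),(0,[],[]),(0,[],[]),(0,[],[]),(0,[],[]),(0,[],[]),(0,[],[]),(0,[],[]),(0,[],[]),(0,[],[]),(0,[],[]),(0,[],[]),(0,[],[]),(0,[],[]),(0,[],[]),(0,[],[]),(0,[],[]),(0,[],[]),(0,[],[]),(0,[],[]),(0,[],[]),(0,[],[]),(0,[],[]),(0,[],[]),(0,[],[]),(0,[],[]),(0,[],[]),(0,[],[]),(0,[],[]),(0,[],[]),(0,[],[]),(0,[],[]),(0,[],[]),(0,[],[]),(0,[],[]),(0,[],[]),(0,[],[]),(0,[],[]),(0,[],[]),(0,[],[]),(0,[],[]),(0,[],[]),(0,[],[]),(0,[]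,[]),(0,[],[]),(0,[],[]),(0,[],[]),(0,[],[]),(2,[126],[]),(0,[],[]),(0,[],[]),(0,[],[]),(0,[],[]),(3,[130,132,134,136],[0]),(0,[],[]),(0,[],[]),(0,[],[]),(0,[],[]),(0,[],[]),(0,[],[]),(0,[],[]),(4,[0,2,4,140,142,144,146,148,150,152],[129]),(0,[],[]),(0,[],[]),(0,[],[]),(0,[],[]),(0,[],[]),(0,[],[]),(0,[],[]),(0,[],[]),(0,[],[]),(0,[],[]),(0,[],[]),(6,[130,156,158,160,162,164,166,168,170,172,174,176],[129,155,153]),(0,[],[]),(0,[],[]),(0,[],[]),(11,[0,2,4,140,142,144,146,148,180,182,184],[129,155,153,179]),(0,[],[]),(0,[],[]),(0,[],[]),(0,[],[]),(0,[],[]),(0,[],[]),(0,[],[]),(0,[],[]),(0,[],[]),(0,[],[]),(0,[],[]),(0,[],[]),(0,[],[]),(0,[],[]),(0,[],[]),(8,[0,139,188,190,192,194,196,198,200,202,204,206,208,210,212,214,216],[129,155]),(0,[],[]),(0,[],[]),(0,[],[]),(0,[],[]),(0,[],[]),(0,[],[]),(0,[],[]),(0,[],[]),(0,[],[]),(0,[],[]),(0,[],[]),(0,[],[]),(0,[],[]),(5,[130,132,134,220,222,22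4,226,228,230,232,234,236,238,240,242,244],[129,155,219,217]),(0,[],[]),(0,[],[]),(14,[0,139,137,220,222,224,226,248,250],[129,155,219,217,247,245,243,241,239,237,235]),(0,[],[]),(0,[],[]),(0,[],[]),(0,[],[]),(0,[],[]),(0,[],[]),(0,[],[]),(15,[130,132,254,256,258,260,262,264,266],[129,155,153,179,177,175,173,171,169,167,165,163]),(0,[],[]),(0,[],[]),(0,[],[]),(0,[],[]),(0,[],[]),(0,[],[]),(0,[],[]),(0,[],[]),(0,[],[]),(0,[],[]),(0,[],[]),(16,[0,139,188,190,270,272,274,276,278,280,282,284,286,288,290],[129,155,153,179,177,175]),(0,[],[]),(0,[],[]),(0,[],[]),(17,[0,139,137,220,294,296,298],[129,155,219,217,247,245,243,241,239,237,235,233,231,229,227]),(0,[],[]),(18,[130,132,134,220,294,296,298,300,226,248,250,252,234,236,238,240,302],[129,155,219,217,215]),(0,[],[]),(0,[],[]),(0,[],[]),(19,[0,139,137,220,222,224,226,248,250,252,234,306,308,310],[129,155,219,217,247,245,243,241]),(0,[],[])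,(0,[],[]),(0,[],[]),(0,[],[]),(0,[],[]),(0,[],[]),(0,[],[]),(0,[],[]),(0,[],[]),(0,[],[]),(0,[],[]),(0,[],[]),(7,[130,132,134,220,222,314,316,318,320,322,324,326,328,330,332,334,336],[129,155,153,179,187,185]),(0,[],[]),(0,[],[]),(0,[],[]),(21,[0,139,188,340,342,344],[129,155,153,179,177,175,293,291,289,287,285,283,281,279,277,275,273]),(0,[],[]),(0,[],[]),(0,[],[]),(0,[],[]),(0,[],[]),(0,[],[]),(0,[],[]),(0,[],[]),(0,[],[]),(0,[],[]),(22,[0,139,188,190,270,272,274,276,348,350,352,354,356,358,360,362,364,366],[129,155,153,179,177]),(0,[],[]),(0,[],[]),(0,[],[]),(0,[],[]),(0,[],[]),(0,[],[]),(0,[],[]),(0,[],[]),(0,[],[]),(23,[0,2,4,140,142,370,372,374,376,378,380,382,384,386],[129,155,153,179,177,369,367,365,363]),(0,[],[]),(0,[],[]),(0,[],[]),(24,[0,139,188,190,192,194,196,198,200,202,204,206,208,210,390,392,394],[129,155,153,179,177,369]),(0,[],[]),(0,[],[]),(25,[0,139,188,190,192,194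,196,198,398,400],[129,155,153,179,177,175,293,291,289,287,285,283,281,279,348]),(0,[],[]),(0,[],[]),(0,[],[]),(26,[0,139,188,190,192,194,196,404,406,408],[129,155,153,179,177,369,397,395,393,391,211,209,207,205,203]),(0,[],[]),(0,[],[]),(0,[],[]),(0,[],[]),(0,[],[]),(0,[],[]),(0,[],[]),(0,[],[]),(0,[],[]),(0,[],[]),(0,[],[]),(0,[],[]),(0,[],[]),(0,[],[]),(0,[],[]),(0,[],[]),(27,[0,2,4,140,412,414,416,418,420,422,424,426,428,430,432,434,436,438,440,442],[129,155,153,179,187]),(0,[],[]),(0,[],[]),(0,[],[]),(0,[],[]),(0,[],[]),(0,[],[]),(0,[],[]),(0,[],[]),(0,[],[]),(28,[0,139,137,220,294,296,446,448,450,452,454,456,458,460,462],[129,155,153,179,177,175,173,171,169,167]),(0,[],[]),(0,[],[]),(0,[],[]),(0,[],[]),(0,[],[]),(0,[],[]),(0,[],[]),(0,[],[]),(0,[],[]),(0,[],[]),(0,[],[]),(0,[],[]),(0,[],[]),(29,[0,2,466,468,470,472,474,476,478,480,482,484,486,488,490],[129,155,153,179,177,369,397,395,393,391]),(0,[],[]),(0,[],[]),(0,[],[])]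

theorem ok0 : data.stepsOK st0 0 = true := by decide +kernel

def st1 : List Step := [(0,[],[]),(0,[],[]),(0,[],[]),(0,[],[]),(0,[],[]),(0,[],[]),(0,[],[]),(0,[],[]),(0,[],[]),(0,[],[]),(0,[],[]),(0,[],[]),(0,[],[]),(0,[],[]),(0,[],[]),(0,[],[]),(0,[],[]),(0,[],[]),(0,[],[]),(0,[],[]),(0,[],[]),(30,[0,2,466,468,494,496,498,500,502,504,506,508,510,512,514,516,518,520,522,524,526,528,530,532,534,536,538,540],[129,155,153,179,177,175,293]),(0,[],[]),(0,[],[]),(0,[],[]),(0,[],[]),(0,[],[]),(0,[],[]),(0,[],[]),(0,[],[]),(0,[],[]),(0,[],[]),(2,[2],[]),(0,[],[]),(0,[],[]),(0,[],[]),(0,[],[]),(0,[],[]),(4,[139,188,190,192,566,568,570,572,574],[565,466]),(0,[],[]),(0,[],[]),(0,[],[]),(0,[],[]),(0,[],[]),(0,[],[]),(0,[],[]),(0,[],[]),(0,[],[]),(0,[],[]),(6,[1,126,578,580,582,584,586,588,590,592,594,596],[565,466,577]),(0,[],[]),(0,[],[]),(0,[],[]),(11,[139,188,190,192,566,568,570,572,600,602,60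4],[565,466,577,599]),(0,[],[]),(0,[],[]),(0,[],[]),(0,[],[]),(0,[],[]),(0,[],[]),(0,[],[]),(0,[],[]),(0,[],[]),(0,[],[]),(0,[],[]),(8,[139,137,220,222,314,316,608,610,612,614,616,618,620,622,624,626,628],[565,466]),(0,[],[]),(0,[],[]),(0,[],[]),(0,[],[]),(0,[],[]),(0,[],[]),(0,[],[]),(0,[],[]),(0,[],[]),(0,[],[]),(0,[],[]),(0,[],[]),(5,[1,130,132,254,632,634,636,638,640,642,644,646,648,650,652,654],[565,466,631,629]),(0,[],[]),(0,[],[]),(14,[139,137,135,254,632,634,636,658,660],[565,466,631,629,657,655,653,651,649,647,645]),(0,[],[]),(0,[],[]),(0,[],[]),(0,[],[]),(0,[],[]),(0,[],[]),(15,[1,130,156,664,666,668,670,672,674],[565,466,577,599,597,595,593,591,589,587,585,583]),(0,[],[]),(0,[],[]),(0,[],[]),(0,[],[]),(0,[],[]),(0,[],[]),(0,[],[]),(0,[],[]),(16,[139,137,220,222,224,226,248,678,680,682,684,686,688,690,692],[565,466,577,599,597,595]),(0,[],[]),(0,[],[]),(17,[139,137,135,254,256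,696,698],[565,466,631,629,657,655,653,651,649,647,645,643,641,639,637]),(0,[],[]),(18,[1,130,132,254,256,696,698,700,636,658,660,662,644,646,648,650,702],[565,466,631,629,627]),(0,[],[]),(0,[],[]),(0,[],[]),(19,[139,137,135,254,632,634,636,658,660,662,644,706,708,710],[565,466,631,629,657,655,653,651]),(0,[],[]),(0,[],[]),(0,[],[]),(0,[],[]),(0,[],[]),(0,[],[]),(0,[],[]),(0,[],[]),(0,[],[]),(0,[],[]),(0,[],[]),(0,[],[]),(7,[1,130,132,254,632,714,716,718,720,722,724,726,728,730,732,734,736],[565,466,577,599,607,605]),(0,[],[]),(0,[],[]),(0,[],[]),(0,[],[]),(0,[],[]),(0,[],[]),(0,[],[]),(0,[],[]),(0,[],[]),(0,[],[]),(22,[139,137,220,222,224,226,248,678,740,742,744,746,748,750,752,754,756,758],[565,466,577,599,597]),(0,[],[]),(0,[],[]),(0,[],[]),(0,[],[]),(0,[],[]),(0,[],[]),(0,[],[]),(0,[],[]),(0,[],[]),(23,[139,188,190,192,566,762,764,766,768,770,772,774,776,778],[565,466,577,599,597,76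1,759,757,755]),(0,[],[]),(0,[],[]),(0,[],[]),(24,[139,137,220,222,314,316,608,610,612,614,616,618,620,622,782,784,786],[565,466,577,599,597,761]),(0,[],[]),(0,[],[]),(25,[139,137,220,222,314,316,608,610,790,792],[565,466,577,599,597,595,695,693,691,689,687,685,683,681,740]),(0,[],[]),(0,[],[]),(0,[],[]),(26,[139,137,220,222,314,316,608,796,798,800],[565,466,577,599,597,761,789,787,785,783,623,621,619,617,615]),(0,[],[]),(0,[],[]),(0,[],[]),(0,[],[]),(0,[],[]),(0,[],[]),(0,[],[]),(0,[],[]),(0,[],[]),(0,[],[]),(0,[],[]),(0,[],[]),(0,[],[]),(0,[],[]),(0,[],[]),(27,[139,188,190,192,194,804,806,808,810,812,814,816,818,820,822,824,826,828,830,832],[565,466,577,599,607]),(0,[],[]),(0,[],[]),(0,[],[]),(0,[],[]),(0,[],[]),(0,[],[]),(0,[],[]),(0,[],[]),(0,[],[]),(28,[139,137,135,254,256,696,836,838,840,842,844,846,848,850,852],[565,466,577,599,597,595,593,591,589,587]),(0,[],[]),(0,[],[]),(0,[],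[]),(0,[],[]),(0,[],[]),(0,[],[]),(0,[],[]),(0,[],[]),(0,[],[]),(0,[],[]),(0,[],[]),(0,[],[]),(29,[139,188,340,856,858,860,862,864,866,868,870,872,874,876,878],[565,466,577,599,597,761,789,787,785,783]),(0,[],[]),(0,[],[]),(0,[],[]),(0,[],[]),(0,[],[]),(0,[],[]),(0,[],[]),(0,[],[]),(0,[],[]),(0,[],[]),(0,[],[]),(0,[],[]),(0,[],[]),(0,[],[]),(0,[],[]),(0,[],[]),(0,[],[]),(0,[],[]),(0,[],[]),(0,[],[]),(0,[],[]),(0,[],[]),(0,[],[]),(0,[],[]),(30,[139,188,340,856,882,884,886,888,890,892,894,896,898,900,902,904,906,908,910,912,914,916,918,920,922,924,926,928],[565,466,577,599,597,595,695]),(0,[],[]),(0,[],[]),(0,[],[]),(0,[],[]),(3,[4,6,938],[466,631]),(0,[],[]),(0,[],[]),(0,[],[]),(0,[],[]),(0,[],[]),(0,[],[]),(4,[466,468,470,942,944,946,948,950,952],[3,139]),(0,[],[]),(0,[],[]),(0,[],[]),(0,[],[]),(0,[],[]),(0,[],[]),(0,[],[]),(0,[],[]),(0,[],[]),(6,[4,140,412,956,958,960,962,964,966,968,970,972],[3,139,955]),(0,[],[]),(0,[],[]),(0,[],[]),(11,[466,468,470,942,944,946,948,950,976,978,980],[3,139,955,975]),(0,[],[]),(0,[],[]),(0,[],[]),(0,[],[]),(0,[],[]),(0,[],[]),(0,[],[]),(0,[],[])]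

theorem ok1 : data.stepsOK st1 250 = true := by decide +kernel

def st2 : List Step := [(0,[],[]),(0,[],[]),(0,[],[]),(0,[],[]),(0,[],[]),(0,[],[]),(8,[466,631,984,986,988,990,992,994,996,998,1000,1002,1004,1006,1008,1010],[3,139,137]),(0,[],[]),(0,[],[]),(0,[],[]),(0,[],[]),(0,[],[]),(0,[],[]),(0,[],[]),(0,[],[]),(0,[],[]),(0,[],[]),(0,[],[]),(0,[],[]),(0,[],[]),(5,[4,6,938,1014,1016,1018,1020,1022,1024,1026,1028,1030,1032,1034,1036,1038],[3,139,137,1013]),(0,[],[]),(0,[],[]),(14,[466,631,941,1014,1016,1018,1020,1042,1044],[3,139,137,1013,1041,1039,1037,1035,1033,1031,1029]),(0,[],[]),(0,[],[]),(0,[],[]),(0,[],[]),(0,[],[]),(0,[],[]),(15,[4,6,8,1048,1050,1052,1054,1056,1058],[3,139,955,975,973,971,969,967,965,963,961,959]),(0,[],[]),(0,[],[]),(0,[],[]),(0,[],[]),(0,[],[]),(0,[],[]),(0,[],[]),(0,[],[]),(0,[],[]),(0,[],[]),(0,[],[]),(16,[466,631,984,986,1062,1064,1066,1068,1070,1072,10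74,1076,1078,1080,1082],[3,139,955,975,973,971]),(0,[],[]),(0,[],[]),(0,[],[]),(17,[466,631,941,1014,1086,1088,1090],[3,139,137,1013,1041,1039,1037,1035,1033,1031,1029,1027,1025,1023,1021]),(0,[],[]),(18,[4,6,938,1014,1086,1088,1090,1092,1020,1042,1044,1046,1028,1030,1032,1034,1094],[3,139,137,1013,1011]),(0,[],[]),(0,[],[]),(0,[],[]),(19,[466,631,941,1014,1016,1018,1020,1042,1044,1046,1028,1098,1100,1102],[3,139,137,1013,1041,1039,1037,1035]),(0,[],[]),(0,[],[]),(0,[],[]),(0,[],[]),(0,[],[]),(0,[],[]),(0,[],[]),(0,[],[]),(0,[],[]),(0,[],[]),(0,[],[]),(0,[],[]),(7,[4,6,938,1014,1016,1106,1108,1110,1112,1114,1116,1118,1120,1122,1124,1126,1128],[3,139,955,975,983,981]),(0,[],[]),(0,[],[]),(0,[],[]),(0,[],[]),(0,[],[]),(0,[],[]),(0,[],[]),(0,[],[]),(0,[],[]),(0,[],[]),(0,[],[]),(0,[],[]),(22,[466,631,984,986,1062,1064,1066,1068,1136,1138,1140,1142,1144,1146,1148,1150,1152,1154],[3,139,955,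975,973]),(0,[],[]),(0,[],[]),(0,[],[]),(0,[],[]),(0,[],[]),(0,[],[]),(0,[],[]),(0,[],[]),(0,[],[]),(23,[466,468,470,942,944,1158,1160,1162,1164,1166,1168,1170,1172,1174],[3,139,955,975,973,1157,1155,1153,1151]),(0,[],[]),(0,[],[]),(0,[],[]),(24,[466,631,984,986,988,990,992,994,996,998,1000,1002,1004,1006,1178,1180,1182],[3,139,955,975,973,1157]),(0,[],[]),(0,[],[]),(25,[466,631,984,986,988,990,992,994,1186,1188],[3,139,955,975,973,971,1085,1083,1081,1079,1077,1075,1073,1071,1136]),(0,[],[]),(0,[],[]),(0,[],[]),(26,[466,631,984,986,988,990,992,1192,1194,1196],[3,139,955,975,973,1157,1185,1183,1181,1179,1007,1005,1003,1001,999]),(0,[],[]),(0,[],[]),(0,[],[]),(0,[],[]),(0,[],[]),(0,[],[]),(0,[],[]),(0,[],[]),(0,[],[]),(0,[],[]),(0,[],[]),(0,[],[]),(0,[],[]),(0,[],[]),(0,[],[]),(0,[],[]),(27,[466,468,470,942,1200,1202,1204,1206,1208,1210,1212,1214,1216,1218,1220,1222,1224,1226,1228,1230],[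3,139,955,975,983]),(0,[],[]),(0,[],[]),(0,[],[]),(0,[],[]),(0,[],[]),(0,[],[]),(0,[],[]),(0,[],[]),(0,[],[]),(28,[466,631,941,1014,1086,1088,1234,1236,1238,1240,1242,1244,1246,1248,1250],[3,139,955,975,973,971,969,967,965,963]),(0,[],[]),(0,[],[]),(0,[],[]),(0,[],[]),(0,[],[]),(0,[],[]),(0,[],[]),(0,[],[]),(0,[],[]),(0,[],[]),(0,[],[]),(0,[],[]),(29,[466,468,494,1254,1256,1258,1260,1262,1264,1266,1268,1270,1272,1274,1276],[3,139,955,975,973,1157,1185,1183,1181,1179]),(0,[],[]),(0,[],[]),(0,[],[]),(0,[],[]),(0,[],[]),(0,[],[]),(0,[],[]),(0,[],[]),(0,[],[]),(0,[],[]),(0,[],[]),(0,[],[]),(0,[],[]),(0,[],[]),(0,[],[]),(0,[],[]),(0,[],[]),(0,[],[]),(0,[],[]),(0,[],[]),(0,[],[]),(0,[],[]),(0,[],[]),(0,[],[]),(30,[466,468,494,1254,1280,1282,1284,1286,1288,1290,1292,1294,1296,1298,1300,1302,1304,1306,1308,1310,1312,1314,1316,1318,1320,1322,1324,1326],[3,139,955,975,973,971,1085]),(0,[],[]),(0,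[],[]),(0,[],[]),(0,[],[]),(0,[],[]),(0,[],[]),(0,[],[]),(0,[],[]),(0,[],[]),(0,[],[]),(0,[],[]),(0,[],[]),(0,[],[]),(0,[],[]),(0,[],[]),(0,[],[]),(0,[],[]),(0,[],[]),(0,[],[]),(0,[],[]),(0,[],[]),(0,[],[]),(0,[],[]),(0,[],[]),(0,[],[]),(0,[],[]),(0,[],[]),(0,[],[]),(0,[],[]),(0,[],[]),(0,[],[]),(0,[],[]),(0,[],[]),(0,[],[]),(0,[],[]),(0,[],[]),(0,[],[]),(31,[466,468,494,1254,1280,1282,1330,1332,1334,1336,1338,1340,1342,1344,1346,1348,1350,1352,1354,1356,1358,1360,1362,1364,1366,1368,1370,1372,1374,1376,1378,1380,1382,1384,1386,1388,1390,1392,1394,1396,1398,1400,1402],[3,139,955,975,973,971,1085,1083]),(2,[140],[]),(0,[],[]),(0,[],[]),(0,[],[]),(0,[],[]),(4,[5,564,1,126,155,1408,1410,1412,1414],[1407,142]),(0,[],[]),(0,[],[]),(0,[],[]),(0,[],[]),(0,[],[]),(0,[],[]),(6,[6,8,10,12,14,16,1418,1420,1422,1424,1426,1428],[1407,142,1417]),(0,[],[]),(0,[],[]),(0,[],[]),(11,[5,564,1,126,155,1408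,1410,1412,1432,1434,1436],[1407,142,1417,1431]),(0,[],[]),(0,[],[]),(0,[],[]),(0,[],[]),(0,[],[]),(0,[],[]),(0,[],[]),(0,[],[]),(0,[],[]),(0,[],[]),(8,[5,466,468,470,942,1200,1440,1442,1444,1446,1448,1450,1452,1454,1456,1458],[1407,142,370]),(0,[],[]),(0,[],[]),(0,[],[]),(0,[],[]),(0,[],[]),(0,[],[]),(0,[],[]),(0,[],[]),(0,[],[]),(5,[6,938,940,984,986,1062,1064,1462,1464,1466,1468,1470,1472,1474,1476,1478],[1407,142,370,1461]),(0,[],[]),(14,[5,466,631,984,986,1062,1064,1066,1482],[1407,142,370,1461,1481,1479,1477,1475,1473,1471,1469]),(0,[],[]),(0,[],[]),(0,[],[]),(0,[],[]),(0,[],[]),(15,[6,938,1014,1086,1486,1488,1490,1492,1494],[1407,142,1417,1431,1429,1427,1425,1423,1421,1419,17,15]),(0,[],[])]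

theorem ok2 : data.stepsOK st2 500 = true := by decide +kernel

def st3 : List Step := [(0,[],[]),(0,[],[]),(0,[],[]),(0,[],[]),(0,[],[]),(0,[],[]),(0,[],[]),(16,[5,466,468,470,472,474,476,1498,1500,1502,1504,1506,1508,1510,1512],[1407,142,1417,1431,1429,1427]),(0,[],[]),(0,[],[]),(0,[],[]),(0,[],[]),(0,[],[]),(0,[],[]),(0,[],[]),(0,[],[]),(0,[],[]),(0,[],[]),(0,[],[]),(7,[6,938,940,984,986,988,990,1518,1520,1522,1524,1526,1528,1530,1532,1534,1536],[1407,142,1417,1431,1439,1437]),(21,[5,466,468,494,496,544],[1407,142,1417,1431,1429,1427,1515,1513,1511,1509,1507,1505,1503,1501,1499,477,475]),(0,[],[]),(0,[],[]),(0,[],[]),(0,[],[]),(0,[],[]),(0,[],[]),(0,[],[]),(0,[],[]),(0,[],[]),(0,[],[]),(22,[5,466,468,470,472,474,476,1498,1542,1544,1546,1548,1550,1552,1554,1556,1558,1560],[1407,142,1417,1431,1429]),(0,[],[]),(0,[],[]),(0,[],[]),(0,[],[]),(0,[],[]),(0,[],[]),(0,[],[]),(0,[],[]),(23,[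5,564,1,126,155,219,1564,1566,1568,1570,1572,1574,1576,1578],[1407,142,1417,1431,1429,1563,1561,1559,1557]),(0,[],[]),(0,[],[]),(0,[],[]),(24,[5,466,468,470,942,1200,1440,1442,1444,1446,1448,1450,1452,1454,1582,1584,1586],[1407,142,1417,1431,1429,1563]),(0,[],[]),(0,[],[]),(25,[5,466,468,470,942,1200,1440,1442,1590,1592],[1407,142,1417,1431,1429,1427,1515,1513,1511,1509,1507,1505,1503,1501,1542]),(0,[],[]),(0,[],[]),(0,[],[]),(0,[],[]),(0,[],[]),(0,[],[]),(0,[],[]),(0,[],[]),(0,[],[]),(0,[],[]),(0,[],[]),(0,[],[]),(0,[],[]),(0,[],[]),(0,[],[]),(0,[],[]),(0,[],[]),(27,[5,564,1,126,578,1600,1602,1604,1606,1608,1610,1612,1614,1616,1618,1620,1622,1624,1626,1628],[1407,142,1417,1431,1439]),(0,[],[]),(0,[],[]),(0,[],[]),(0,[],[]),(0,[],[]),(0,[],[]),(0,[],[]),(0,[],[]),(28,[5,466,631,984,1132,1134,1632,1634,1636,1638,1640,1642,1644,1646],[1407,142,1417,1431,1429,1427,1425,1423,1421,1419,18]),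(0,[],[]),(0,[],[]),(0,[],[]),(0,[],[]),(0,[],[]),(0,[],[]),(0,[],[]),(29,[5,564,139,188,190,270,272,274,1650,1652,1654,1656,1658,1660,1662],[1407,142,1417,1431,1429,1563,1589,1587,1585,1583]),(0,[],[]),(0,[],[]),(0,[],[]),(0,[],[]),(0,[],[]),(0,[],[]),(0,[],[]),(0,[],[]),(0,[],[]),(0,[],[]),(0,[],[]),(0,[],[]),(0,[],[]),(0,[],[]),(0,[],[]),(0,[],[]),(0,[],[]),(0,[],[]),(0,[],[]),(0,[],[]),(0,[],[]),(0,[],[]),(30,[5,564,139,188,340,342,1666,1668,1670,1672,1674,1676,1678,1680,1682,1684,1686,1688,1690,1692,1694,1696,1698,1700,1702,1704,1706,1708],[1407,142,1417,1431,1429,1427,1515]),(0,[],[]),(0,[],[]),(0,[],[]),(0,[],[]),(0,[],[]),(0,[],[]),(0,[],[]),(0,[],[]),(0,[],[]),(0,[],[]),(0,[],[]),(0,[],[]),(0,[],[]),(0,[],[]),(0,[],[]),(0,[],[]),(0,[],[]),(0,[],[]),(0,[],[]),(0,[],[]),(0,[],[]),(0,[],[]),(0,[],[]),(0,[],[]),(0,[],[]),(0,[],[]),(0,[],[]),(0,[],[]),(0,[],[]),(0,[],[]),(0,[],[]),(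0,[],[]),(0,[],[]),(0,[],[]),(0,[],[]),(0,[],[]),(31,[5,564,139,188,340,342,344,1712,1714,1716,1718,1720,1722,1724,1726,1728,1730,1732,1734,1736,1738,1740,1742,1744,1746,1748,1750,1752,1754,1756,1758,1760,1762,1764,1766,1768,1770,1772,1774,1776,1778,1780,1782],[1407,142,1417,1431,1429,1427,1515,1513]),(2,[8],[]),(0,[],[]),(0,[],[]),(0,[],[]),(0,[],[]),(4,[7,140,412,956,1061,1788,1790,1792,1794],[1787,1048]),(0,[],[]),(0,[],[]),(0,[],[]),(0,[],[]),(0,[],[]),(0,[],[]),(0,[],[]),(6,[938,1014,1016,1106,1108,1798,1800,1802,1804,1806,1808,1810],[1787,1048,1797]),(0,[],[]),(0,[],[]),(0,[],[]),(11,[7,140,412,956,1061,1788,1790,1792,1814,1816,1818],[1787,1048,1797,1813]),(0,[],[]),(0,[],[]),(0,[],[]),(0,[],[]),(0,[],[]),(0,[],[]),(0,[],[]),(0,[],[]),(0,[],[]),(8,[7,5,564,1,126,578,580,677,1822,1824,1826,1828,1830,1832,1834,1836,1838],[1787,1048]),(0,[],[]),(0,[],[]),(0,[],[]),(0,[],[]),(0,[],[])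,(0,[],[]),(0,[],[]),(0,[],[]),(0,[],[]),(5,[938,940,630,468,470,472,474,1842,1844,1846,1848,1850,1852,1854,1856,1858],[1787,1048,1841,1839]),(14,[7,5,466,468,470,472,474,476,478],[1787,1048,1841,1839,1861,1859,1857,1855,1853,1851,1849]),(0,[],[]),(0,[],[]),(0,[],[]),(0,[],[]),(0,[],[]),(15,[938,940,984,1132,1864,1866,1868,1870,1872],[1787,1048,1797,1813,1811,1809,1807,1805,1803,1801,1799,1109]),(0,[],[]),(0,[],[]),(0,[],[]),(0,[],[]),(0,[],[]),(0,[],[]),(0,[],[]),(16,[7,5,564,1,130,156,664,666,1876,1878,1880,1882,1884,1886,1888],[1787,1048,1797,1813,1811,1809]),(0,[],[]),(18,[938,940,630,468,494,496,544,1540,474,476,478,1862,1848,1850,1852,1854,1892],[1787,1048,1841,1839,1837]),(0,[],[]),(0,[],[]),(0,[],[]),(0,[],[]),(0,[],[]),(0,[],[]),(0,[],[]),(0,[],[]),(0,[],[]),(0,[],[]),(0,[],[]),(22,[7,5,564,1,130,156,664,666,668,1900,1902,1904,1906,1908,1910,1912,1914,1916],[1787,1048,1797,1813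,1811]),(0,[],[]),(0,[],[]),(0,[],[]),(0,[],[]),(0,[],[]),(0,[],[]),(0,[],[]),(0,[],[]),(0,[],[]),(23,[7,140,412,956,1061,1920,1922,1924,1926,1928,1930,1932,1934,1936],[1787,1048,1797,1813,1811,1919,1917,1915,1913]),(0,[],[]),(0,[],[]),(0,[],[]),(24,[7,5,564,1,126,578,580,677,1822,1824,1826,1828,1830,1832,1940,1942,1944],[1787,1048,1797,1813,1811,1919]),(0,[],[]),(0,[],[]),(25,[7,5,564,1,126,578,580,677,1948,1950],[1787,1048,1797,1813,1811,1809,1891,1889,1887,1885,1883,1881,1879,1877,668]),(0,[],[]),(0,[],[]),(26,[7,5,564,1,126,578,580,582,1954,1956],[1787,1048,1797,1813,1811,1919,1947,1945,1943,1941,1833,1831,1829,1827,1825]),(0,[],[]),(0,[],[]),(0,[],[]),(0,[],[]),(0,[],[]),(0,[],[]),(28,[7,5,466,468,494,496,498,500,502,1960,1962,1964,1966,1968,1970],[1787,1048,1797,1813,1811,1809,1807,1805,1803,1801]),(0,[],[]),(0,[],[]),(0,[],[]),(0,[],[]),(0,[],[]),(0,[],[]),(0,[],[]),(0,[],[]),(0,[],[]),(0,[],[]),(29,[7,140,142,144,146,1974,1976,1978,1980,1982,1984,1986,1988,1990,1992],[1787,1048,1797,1813,1811,1919,1947,1945,1943,1941]),(0,[],[]),(0,[],[])]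

theorem ok3 : data.stepsOK st3 750 = true := by decide +kernel

end

end X7
end HN
end H39
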